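import Cfsg.Agent.Lib.Characterizations.IIGroup.Simple
import Cfsg.Agent.Lib.KnownC.AutPSL.Outer
import Cfsg.Agent.Lib.KnownC.AutPSL.MaxOrd.Main
import Cfsg.Agent.Lib.KnownC.AutPSL.Balance.Common
import Cfsg.Agent.Lib.Classical.Quat.Subfields
import Cfsg.Agent.Lib.Classical.SLBasic
import Cfsg.Agent.Lib.Components.Signalizer.Basic
import Cfsg.Agent.S0494

/-!
# Groups in which `N(X) = N(Y)` for `1 ≠ Y ≤ X`, `X` cyclic of even order: the general case
-/

set_option autoImplicit false
set_option linter.unusedSectionVars false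

namespace CfsgLib.Characterizations.IIGroup

open CfsgLib.Involution.Dihedral

universe u v

variable {G : Type u} [Group G] [Finite G]

theorem mem_normalizer_zpowers {x g : G} :
    g ∈ Subgroup.normalizer (Subgroup.zpowers x : Set G) ↔ g * x * g⁻¹ ∈ Subgroup.zpowers x := by
  refine ⟨fun h => conj_mem_zpowers h (Subgroup.mem_zpowers x), fun h => ?_⟩
  have hle : (Subgroup.zpowers x).map (MulAut.conj g).toMonoidHom ≤ Subgroup.zpowers x := by
    rw [MonoidHom.map_zpowers, Subgroup.zpowers_le]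
    exact h
  have heq := Subgroup.eq_of_le_of_card_ge hle (le_of_eq
    (Nat.card_congr ((Subgroup.zpowers x).equivMapOfInjective _ (MulAut.conj g).injective).toEquiv))
  exact Subgroup.mem_normalizer_iff_map_conj_eq.2 heq

/-- The property for elements of a subgroup. -/
def Pe {M : Type*} [Group M] (H : Subgroup M) : Prop :=
  ∀ x ∈ H, 2 ∣ orderOf x → ∀ y ∈ Subgroup.zpowers x, y ≠ 1 → ∀ h ∈ H,
    h * y * h⁻¹ ∈ Subgroup.zpowers y → h * x * h⁻¹ ∈ Subgroup.zpowers x

theorem pe_range (hG : Ii G) {M : Type*} [Group M] (f : G →* M) (hf : Function.Injective f) : Pe f.range := by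
  rintro _ ⟨x, rfl⟩ h2 _ hy hy1 _ ⟨h, rfl⟩ hh
  obtain ⟨j, rfl⟩ := Subgroup.mem_zpowers_iff.1 hy
  rw [orderOf_injective f hf] at h2
  rw [← map_zpow] at hy1 hh
  have hne : x ^ j ≠ 1 := fun e => hy1 (by rw [e, map_one])
  have hh' : h * x ^ j * h⁻¹ ∈ Subgroup.zpowers (x ^ j) := by
    obtain ⟨i, hi⟩ := Subgroup.mem_zpowers_iff.1 hh
    refine Subgroup.mem_zpowers_iff.2 ⟨i, hf ?_⟩
    rw [map_zpow, hi, map_mul, map_mul, map_inv]
  have hN := hG (Subgroup.zpowers x) inferInstance (by rw [Nat.card_zpowers]; exact even_iff_two_dvd.2 h2)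
    (Subgroup.zpowers (x ^ j)) (Subgroup.zpowers_le.2 (Subgroup.zpow_mem_zpowers x j)) (by simpa using hne)
  have := conj_mem_zpowers (hN.symm ▸ mem_normalizer_zpowers.2 hh') (Subgroup.mem_zpowers x)
  obtain ⟨i, hi⟩ := Subgroup.mem_zpowers_iff.1 this
  exact Subgroup.mem_zpowers_iff.2 ⟨i, by rw [← map_zpow, hi, map_mul, map_mul, map_inv]⟩

theorem ii_subgroup (hG : Ii G) (H : Subgroup G) : Ii H := by
  intro X hX heven Y hYX hY
  have hf := H.subtype_injective
  have key : ∀ Z : Subgroup H, ∀ h : H,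
      h ∈ Subgroup.normalizer (Z : Set H) ↔ (h : G) ∈ Subgroup.normalizer ((Z.map H.subtype : Subgroup G) : Set G) := by
    intro Z h
    rw [Subgroup.mem_normalizer_iff, Subgroup.mem_normalizer_iff]
    constructor
    · intro hh g
      constructor
      · rintro ⟨z, hz, rfl⟩
        exact ⟨h * z * h⁻¹, (hh z).1 hz, by simp⟩
      · rintro ⟨z, hz, e⟩
        refine ⟨h⁻¹ * z * h, (hh _).2 (by simpa [mul_assoc] using hz), ?_⟩
        simp only [Subgroup.subtype_apply, Subgroup.coe_mul, InvMemClass.coe_inv] at e ⊢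
        rw [e]; group
    · intro hh z
      have := hh z
      rw [show (h : G) * z * (h : G)⁻¹ = ((h * z * h⁻¹ : H) : G) by simp] at this
      have h2 : ∀ w : H, (w : G) ∈ Z.map H.subtype ↔ w ∈ Z := fun w => Subgroup.mem_map_iff_mem hf
      rwa [h2, h2] at this
  have e := X.equivMapOfInjective H.subtype hf
  haveI := hX
  have h1 := hG (X.map H.subtype) (isCyclic_of_surjective e.toMonoidHom e.surjective)
    (by rwa [← Nat.card_congr e.toEquiv]) (Y.map H.subtype) (Subgroup.map_mono hYX)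
    (fun h => hY ((Subgroup.map_eq_bot_iff_of_injective _ hf).1 h))
  ext h
  rw [key, key, h1]

theorem ii_equiv {H : Type v} [Group H] (e : G ≃* H) (hG : Ii G) : Ii H := by
  intro X hX heven Y hYX hY
  have e' := X.equivMapOfInjective e.symm.toMonoidHom e.symm.injective
  haveI := hX
  have h1 := hG (X.map e.symm.toMonoidHom) (isCyclic_of_surjective e'.toMonoidHom e'.surjective)
    (by rwa [← Nat.card_congr e'.toEquiv]) (Y.map e.symm.toMonoidHom) (Subgroup.map_mono hYX)
    (fun h => hY ((Subgroup.map_eq_bot_iff_of_injective _ e.symm.injective).1 h))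
  have h2 := congrArg (Subgroup.map e.toMonoidHom) h1
  have key : ∀ Z : Subgroup H, (Subgroup.normalizer ((Z.map e.symm.toMonoidHom : Subgroup G) : Set G)).map e.toMonoidHom =
      Subgroup.normalizer (Z : Set H) := fun Z => by
    rw [Subgroup.map_normalizer_eq_of_bijective _ e.bijective, Subgroup.map_map,
      show e.toMonoidHom.comp e.symm.toMonoidHom = MonoidHom.id H from MonoidHom.ext e.apply_symm_apply, Subgroup.map_id]
  rwa [key, key] at h2

theorem commute_invol (hG : Ii G) {L K : Subgroup G} (hLK : ∀ l ∈ L, ∀ k ∈ K, Commute l k)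
    (hL : ¬ Group.IsSolvable L) (hK : ¬ Group.IsSolvable K) :
    ∃ t ∈ L, orderOf t = 2 ∧ ∀ l ∈ L, Commute l t := by
  haveI : Fact (Nat.Prime 2) := ⟨Nat.prime_two⟩
  obtain ⟨t, ht, hto⟩ : ∃ t ∈ L, orderOf t = 2 := by
    have h : 2 ∣ Nat.card L := by
      rw [← even_iff_two_dvd]
      by_contra h
      exact hL (CfsgLib.OddOrder.Final.oddSolvable L (Nat.not_even_iff_odd.1 h))
    obtain ⟨⟨t, ht⟩, hto⟩ := exists_prime_orderOf_dvd_card' 2 h
    exact ⟨t, ht, by rwa [Subgroup.orderOf_mk] at hto⟩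
  obtain ⟨y, hy, hy1, hyo⟩ : ∃ y ∈ K, y ≠ 1 ∧ Odd (orderOf y) := by
    by_contra h
    push Not at h
    refine hK ?_
    have hp : IsPGroup 2 K := by
      intro x
      obtain ⟨k, m, hm, hkm⟩ := Nat.exists_eq_two_pow_mul_odd (orderOf_pos (x : G)).ne'
      refine ⟨k, Subtype.ext ?_⟩
      simp only [SubmonoidClass.coe_pow, OneMemClass.coe_one]
      by_contra hne
      refine (Nat.not_odd_iff_even.2 (Nat.not_odd_iff_even.1 (h _ (pow_mem x.2 _) hne))) ?_
      rw [orderOf_pow_of_dvd (by positivity) ⟨m, hkm⟩, hkm, Nat.mul_div_cancel_left _ (by positivity)]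
      exact hm
    haveI := hp.isNilpotent
    exact IsNilpotent.to_isSolvable
  refine ⟨t, ht, hto, fun l hl => ?_⟩
  have h1 : l ∈ Subgroup.normalizer (Subgroup.zpowers y : Set G) := by
    rw [mem_normalizer_zpowers, (hLK l hl y hy).eq, mul_inv_cancel_right]
    exact Subgroup.mem_zpowers y
  rw [norm_odd hG hto hyo hy1 (hLK t ht y hy)] at h1
  exact mem_C.1 h1

theorem exists_simple_normal [Nontrivial G] (hG : Ii G)
    (hss : ∀ N : Subgroup G, N.Normal → Group.IsSolvable ↥N → N = ⊥) :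
    ∃ N : Subgroup G, N.Normal ∧ IsSimpleGroup N ∧ ¬ Group.IsSolvable N ∧ Subgroup.centralizer (N : Set G) = ⊥ := by
  classical
  obtain ⟨N, ⟨hNn, hN1⟩, hNmin⟩ : ∃ N, Minimal (fun N : Subgroup G => N.Normal ∧ N ≠ ⊥) N :=
    (Set.toFinite {N : Subgroup G | N.Normal ∧ N ≠ ⊥}).exists_minimal ⟨⊤, inferInstance, top_ne_bot⟩
  have hNs : ¬ Group.IsSolvable N := fun h => hN1 (hss N hNn h)
  have hmap : ∀ (X : Subgroup G) (g : G), Group.IsSolvable X → Group.IsSolvable (X.map (MulAut.conj g).toMonoidHom) := by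
    intro X g hX
    haveI := hX
    exact Group.isSolvable_of_surjective (f := ((MulAut.conj g).toMonoidHom.subgroupMap X)) (MonoidHom.subgroupMap_surjective _ _)
  -- the normal subgroups of `N`
  set P := fun L : Subgroup G => L ≤ N ∧ N ≤ Subgroup.normalizer (L : Set G) with hP
  have hPconj : ∀ L g, P L → P (L.map (MulAut.conj g).toMonoidHom) := by
    rintro L g ⟨h1, h2⟩
    refine ⟨?_, ?_⟩
    · rintro _ ⟨l, hl, rfl⟩
      simpa using hNn.conj_mem l (h1 hl) g
    · intro n hn
      have hn' : g⁻¹ * n * g ∈ Subgroup.normalizer (L : Set G) :=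
        h2 (by have := hNn.conj_mem n hn g⁻¹; rwa [inv_inv] at this)
      rw [Subgroup.mem_normalizer_iff]
      intro y
      simp only [Subgroup.mem_map_equiv, MulAut.conj_symm_apply]
      rw [Subgroup.mem_normalizer_iff.1 hn' (g⁻¹ * y * g)]
      rw [show g⁻¹ * n * g * (g⁻¹ * y * g) * (g⁻¹ * n * g)⁻¹ = g⁻¹ * (n * y * n⁻¹) * g by group]
  have hnosolv : ∀ L, P L → Group.IsSolvable L → L = ⊥ := by
    obtain ⟨R, ⟨hR, hRs⟩, hRmax⟩ : ∃ R, Maximal (fun R : Subgroup G => P R ∧ Group.IsSolvable R) R :=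
      (Set.toFinite {R : Subgroup G | P R ∧ Group.IsSolvable R}).exists_maximal
        ⟨⊥, ⟨bot_le, fun n _ => Subgroup.mem_normalizer_iff.2 fun y => by simp⟩, inferInstance⟩
    have hjoin : ∀ L, P L → Group.IsSolvable L → L ≤ R := by
      intro L hL hLs
      have hn : L ≤ Subgroup.normalizer (R : Set G) := hL.1.trans hR.2
      refine le_sup_right.trans (hRmax ⟨⟨sup_le hR.1 hL.1, ?_⟩, CfsgLib.Components.Signalizer.isSolvable_sup hn hRs hLs⟩
        le_sup_left)
      intro n hn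
      have h1 := Subgroup.mem_normalizer_iff_map_conj_eq.1 (hR.2 hn)
      have h2 := Subgroup.mem_normalizer_iff_map_conj_eq.1 (hL.2 hn)
      rw [Subgroup.mem_normalizer_iff_map_conj_eq, Subgroup.map_sup, h1, h2]
    have hRn : R.Normal := ⟨fun r hr g => hjoin _ (hPconj R g hR) (hmap R g hRs) ⟨r, hr, by simp⟩⟩
    intro L hL hLs
    rw [eq_bot_iff, ← hss R hRn hRs]
    exact hjoin L hL hLs
  obtain ⟨L, ⟨hL, hL1⟩, hLmin⟩ : ∃ L, Minimal (fun L : Subgroup G => P L ∧ L ≠ ⊥) L :=
    (Set.toFinite {L : Subgroup G | P L ∧ L ≠ ⊥}).exists_minimal ⟨N, ⟨le_rfl, Subgroup.le_normalizer⟩, hN1⟩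
  have hLs : ¬ Group.IsSolvable L := fun h => hL1 (hnosolv L hL h)
  have hLN : L = N := by
    by_contra hne
    have hex : ∃ g : G, L.map (MulAut.conj g).toMonoidHom ≠ L := by
      by_contra h
      push Not at h
      exact hne (le_antisymm hL.1 (hNmin ⟨⟨fun l hl g => (h g) ▸ ⟨l, hl, by simp⟩⟩, hL1⟩ hL.1))
    obtain ⟨g, hg⟩ := hex
    set L' := L.map (MulAut.conj g).toMonoidHom with hL'
    have hL'P := hPconj L g hL
    have hinf : L ⊓ L' = ⊥ := by
      by_contra h
      have h1 := hLmin ⟨⟨inf_le_left.trans hL.1, fun n hn => Subgroup.inf_normalizer_le_normalizer_inf ⟨hL.2 hn, hL'P.2 hn⟩⟩, h⟩ inf_le_left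
      refine hg (Subgroup.eq_of_le_of_card_ge (h1.trans inf_le_right) ?_).symm
      exact le_of_eq (Nat.card_congr (L.equivMapOfInjective _ (MulAut.conj g).injective).toEquiv).symm
    have hcomm : ∀ l ∈ L, ∀ k ∈ L', Commute l k := by
      intro l hl k hk
      refine mul_inv_eq_iff_eq_mul.1 (mul_inv_eq_one.1 (Subgroup.mem_bot.1 (hinf ▸ (⟨?_, ?_⟩ : l * k * l⁻¹ * k⁻¹ ∈ L ⊓ L'))))
      · rw [show l * k * l⁻¹ * k⁻¹ = l * (k * l⁻¹ * k⁻¹) by group]
        exact mul_mem hl ((Subgroup.mem_normalizer_iff.1 (hL.2 (hL'P.1 hk)) _).1 (inv_mem hl))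
      · exact L'.mul_mem ((Subgroup.mem_normalizer_iff.1 (hL'P.2 (hL.1 hl)) _).1 hk) (L'.inv_mem hk)
    have hL's : ¬ Group.IsSolvable L' := fun h => by
      haveI := h
      let e := L.equivMapOfInjective (MulAut.conj g).toMonoidHom (MulAut.conj g).injective
      exact hLs (Group.isSolvable_of_isSolvable_injective (f := e.toMonoidHom) e.injective)
    obtain ⟨t, ht, hto, htc⟩ := commute_invol hG hcomm hLs hL's
    set Z := L ⊓ Subgroup.centralizer (L : Set G) with hZ
    have hZP : P Z := ⟨inf_le_left.trans hL.1, fun n hn => Subgroup.inf_normalizer_le_normalizer_inf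
      ⟨hL.2 hn, Subgroup.mem_normalizer_iff.2 fun y => by
        have h2 := hL.2 hn
        simp only [SetLike.mem_coe, Subgroup.mem_centralizer_iff]
        constructor
        · intro hy l hl
          have hl' := (Subgroup.mem_normalizer_iff.1 (inv_mem h2) l).1 hl
          rw [inv_inv] at hl'
          calc l * (n * y * n⁻¹) = n * (n⁻¹ * l * n * y) * n⁻¹ := by group
            _ = n * y * n⁻¹ * l := by rw [hy _ hl']; group
        · intro hy l hl
          have hl' := (Subgroup.mem_normalizer_iff.1 h2 l).1 hl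
          calc l * y = n⁻¹ * (n * l * n⁻¹ * (n * y * n⁻¹)) * n := by group
            _ = y * l := by rw [hy _ hl']; group⟩⟩
    have hZs : Group.IsSolvable Z := Group.isSolvable_of_comm fun a b => Subtype.ext
      (Subgroup.mem_centralizer_iff.1 b.2.2 a a.2.1)
    exact ne_one hto (Subgroup.mem_bot.1 (hnosolv Z hZP hZs ▸
      (⟨ht, Subgroup.mem_centralizer_iff.2 fun l hl => (htc l hl).eq⟩ : t ∈ Z)))
  refine ⟨N, hNn, ?_, hNs, ?_⟩
  · haveI : Nontrivial N := (Subgroup.nontrivial_iff_ne_bot N).2 hN1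
    refine ⟨fun M hM => ?_⟩
    by_cases hM1 : M = ⊥
    · exact Or.inl hM1
    refine Or.inr ?_
    have hMP : P (M.map N.subtype) := by
      refine ⟨Subgroup.map_subtype_le M, fun n hn => Subgroup.mem_normalizer_iff_map_conj_eq.2 ?_⟩
      refine Subgroup.eq_of_le_of_card_ge ?_ (le_of_eq
        (Nat.card_congr ((M.map N.subtype).equivMapOfInjective _ (MulAut.conj n).injective).toEquiv))
      rintro _ ⟨_, ⟨m, hm, rfl⟩, rfl⟩
      exact ⟨⟨n, hn⟩ * m * ⟨n, hn⟩⁻¹, hM.conj_mem m hm _, by simp⟩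
    have h1 : N ≤ M.map N.subtype := by
      have h2 : M.map N.subtype ≠ ⊥ := fun h => hM1 ((Subgroup.map_eq_bot_iff_of_injective _ N.subtype_injective).1 h)
      subst hLN
      exact hLmin ⟨hMP, h2⟩ hMP.1
    rw [eq_top_iff]
    intro x _
    exact (Subgroup.mem_map_iff_mem N.subtype_injective).1 (h1 x.2)
  · by_contra hne
    set K := Subgroup.centralizer (N : Set G) with hK
    haveI := hNn
    have hKn : K.Normal := inferInstance
    have hKs : ¬ Group.IsSolvable K := fun h => hne (hss K hKn h)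
    obtain ⟨t, ht, hto, htc⟩ := commute_invol hG
      (fun l hl k hk => (Subgroup.mem_centralizer_iff.1 hk l hl)) hNs hKs
    have hZs : Group.IsSolvable ↥(N ⊓ K) := Group.isSolvable_of_comm fun a b => Subtype.ext
      (Subgroup.mem_centralizer_iff.1 b.2.2 a a.2.1)
    exact ne_one hto (Subgroup.mem_bot.1 (hss _ inferInstance hZs ▸
      (⟨ht, Subgroup.mem_centralizer_iff.2 fun l hl => (htc l hl).eq⟩ : t ∈ N ⊓ K)))

section Aut

open CfsgLib.KnownC.AutPSL Matrix

variable {F : Type} [Field F] [Fintype F]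

/-- The inner-diagonal automorphism of a matrix. -/
def rho : GL (Fin 2) F →* MulAut (Matrix.ProjectiveSpecialLinearGroup (Fin 2) F) :=
  MonoidHom.mk' (fun A => semiAut A (RingEquiv.refl F)) (fun A B => (refl_mul A B).symm)

theorem rho_apply (A : GL (Fin 2) F) : rho A = semiAut A (RingEquiv.refl F) := rfl

/-- `diag(u, 1)`. -/
def d2 : Fˣ →* GL (Fin 2) F := dg (by omega : 1 ≤ 2)

theorem d2_coe (u : Fˣ) : ((d2 u : GL (Fin 2) F) : Matrix (Fin 2) (Fin 2) F) = !![(u : F), 0; 0, 1] := by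
  show Matrix.diagonal _ = _
  ext i j
  fin_cases i <;> fin_cases j <;> simp

theorem det_d2 (u : Fˣ) : Matrix.GeneralLinearGroup.det (d2 u : GL (Fin 2) F) = u := det_dg _ u

/-- A transvection. -/
def U2 (b : F) : GL (Fin 2) F :=
  ⟨!![1, b; 0, 1], !![1, -b; 0, 1], by ext i j; fin_cases i <;> fin_cases j <;> simp [Matrix.mul_apply],
    by ext i j; fin_cases i <;> fin_cases j <;> simp [Matrix.mul_apply]⟩

/-- The standard Weyl element. -/
def J2 : GL (Fin 2) F :=
  ⟨!![0, 1; -1, 0], !![0, -1; 1, 0], by ext i j; fin_cases i <;> fin_cases j <;> simp [Matrix.mul_apply],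
    by ext i j; fin_cases i <;> fin_cases j <;> simp [Matrix.mul_apply]⟩

theorem U2_coe (b : F) : ((U2 b : GL (Fin 2) F) : Matrix (Fin 2) (Fin 2) F) = !![1, b; 0, 1] := rfl

theorem J2_coe : ((J2 : GL (Fin 2) F) : Matrix (Fin 2) (Fin 2) F) = !![0, 1; -1, 0] := rfl

theorem U2_mul (a b : F) : U2 a * U2 b = U2 (a + b) := by
  refine Units.ext ?_
  rw [Units.val_mul, U2_coe, U2_coe, U2_coe]
  ext i j; fin_cases i <;> fin_cases j <;> simp [Matrix.mul_apply, add_comm]

theorem U2_pow (b : F) : ∀ n : ℕ, U2 b ^ n = U2 (n • b)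
  | 0 => by
    refine Units.ext ?_
    rw [pow_zero, Units.val_one, U2_coe, zero_smul]
    ext i j; fin_cases i <;> fin_cases j <;> simp
  | n + 1 => by rw [pow_succ, U2_pow b n, U2_mul, succ_nsmul]

theorem det_U2 (b : F) : Matrix.GeneralLinearGroup.det (U2 b) = 1 := Units.ext (by
  rw [Matrix.GeneralLinearGroup.val_det_apply, U2_coe, Units.val_one]; simp [Matrix.det_fin_two])

theorem det_J2 : Matrix.GeneralLinearGroup.det (J2 : GL (Fin 2) F) = 1 := Units.ext (by
  rw [Matrix.GeneralLinearGroup.val_det_apply, J2_coe, Units.val_one]; simp [Matrix.det_fin_two])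

theorem entry {A B : GL (Fin 2) F} {c : Fˣ} (h : A = scl c * B) (i j : Fin 2) :
    (A : Matrix (Fin 2) (Fin 2) F) i j = (c : F) * (B : Matrix (Fin 2) (Fin 2) F) i j := by
  rw [h, Units.val_mul, scl_coe]; simp

theorem map_U2 (σ : F ≃+* F) (b : F) : Matrix.GeneralLinearGroup.map σ.toRingHom (U2 b) = U2 (σ b) := by
  refine Units.ext ?_
  show (!![1, b; 0, 1] : Matrix (Fin 2) (Fin 2) F).map σ = _
  rw [U2_coe]
  ext i j; fin_cases i <;> fin_cases j <;> simp

theorem map_J2 (σ : F ≃+* F) : Matrix.GeneralLinearGroup.map σ.toRingHom (J2 : GL (Fin 2) F) = J2 := by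
  refine Units.ext ?_
  show (!![0, 1; -1, 0] : Matrix (Fin 2) (Fin 2) F).map σ = _
  rw [J2_coe]
  ext i j; fin_cases i <;> fin_cases j <;> simp

theorem map_d2 (σ : F ≃+* F) (u : Fˣ) :
    Matrix.GeneralLinearGroup.map σ.toRingHom (d2 u) = d2 (Units.map σ.toRingHom.toMonoidHom u) := by
  refine Units.ext ?_
  show ((d2 u : GL (Fin 2) F) : Matrix (Fin 2) (Fin 2) F).map σ = _
  rw [d2_coe, d2_coe]
  ext i j; fin_cases i <;> fin_cases j <;> simp

theorem std_mul_rho (τ : F ≃+* F) (A : GL (Fin 2) F) :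
    semiAut 1 τ * rho A = semiAut (Matrix.GeneralLinearGroup.map τ.toRingHom A) τ := by
  rw [rho_apply, semiAut_mul, one_mul]; rfl

theorem rho_mul_semi (A B : GL (Fin 2) F) (τ : F ≃+* F) : rho A * semiAut B τ = semiAut (A * B) τ := by
  rw [rho_apply, semiAut_mul, map_refl_eq]; rfl

theorem semi_mul_rho (B A : GL (Fin 2) F) (τ : F ≃+* F) :
    semiAut B τ * rho A = semiAut (B * Matrix.GeneralLinearGroup.map τ.toRingHom A) τ := by
  rw [rho_apply, semiAut_mul]; rfl

theorem commute_std_iff (τ : F ≃+* F) (A : GL (Fin 2) F) :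
    Commute (semiAut 1 τ) (rho A) ↔ ∃ c : Fˣ, Matrix.GeneralLinearGroup.map τ.toRingHom A = scl c * A := by
  show semiAut 1 τ * rho A = rho A * semiAut 1 τ ↔ _
  rw [std_mul_rho, rho_mul_semi, mul_one, semi_eq_iff le_rfl]
  simp

theorem exists_semi2 (α : MulAut (Matrix.ProjectiveSpecialLinearGroup (Fin 2) F)) :
    ∃ (A : GL (Fin 2) F) (σ : F ≃+* F), α = semiAut A σ := by
  obtain ⟨A, σ, h | h⟩ := exists_semi le_rfl α
  · exact ⟨A, σ, h⟩
  · obtain ⟨J, hJ⟩ := CfsgLib.KnownC.AutPSL.MaxOrd.itAut_two (F := F)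
    rw [hJ, semiAut_mul] at h
    exact ⟨_, _, h⟩

/-- Two nonsquares multiply to a square. -/
theorem square_or (a b : Fˣ) : (∃ c, c ^ 2 = a * b) ∨ (∃ c, c ^ 2 = a) ∨ (∃ c, c ^ 2 = b) := by
  have hi : (powMonoidHom 2 : Fˣ →* Fˣ).range.index = 1 ∨ (powMonoidHom 2 : Fˣ →* Fˣ).range.index = 2 := by
    rw [IsCyclic.index_powMonoidHom_range]
    exact (Nat.dvd_prime Nat.prime_two).1 (Nat.gcd_dvd_right _ _)
  rcases hi with hi | hi
  · exact Or.inl (MonoidHom.mem_range.1 (Subgroup.index_eq_one.1 hi ▸ Subgroup.mem_top (a * b)))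
  · by_cases ha : a ∈ (powMonoidHom 2 : Fˣ →* Fˣ).range
    · exact Or.inr (Or.inl (MonoidHom.mem_range.1 ha))
    by_cases hb : b ∈ (powMonoidHom 2 : Fˣ →* Fˣ).range
    · exact Or.inr (Or.inr (MonoidHom.mem_range.1 hb))
    exact Or.inl (MonoidHom.mem_range.1 ((Subgroup.mul_mem_iff_of_index_two hi).2 ⟨fun h => absurd h ha, fun h => absurd h hb⟩))

theorem square_of_char_two (h2 : (2 : F) = 0) (u : Fˣ) : ∃ c, c ^ 2 = u := by
  refine Finite.surjective_of_injective (f := fun c : Fˣ => c ^ 2) (fun a b h => ?_) u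
  have h' : (a : F) ^ 2 = (b : F) ^ 2 := by simpa using congrArg Units.val h
  have h3 : ((a : F) - b) ^ 2 = 0 := by
    calc ((a : F) - b) ^ 2 = (a : F) ^ 2 + (b : F) ^ 2 - 2 * (a * b) := by ring
      _ = (b : F) ^ 2 * 2 - 2 * (a * b) := by rw [h']; ring
      _ = 0 := by rw [h2, mul_zero, zero_mul, sub_zero]
  exact Units.ext (sub_eq_zero.1 (pow_eq_zero_iff two_ne_zero |>.1 h3))

theorem card_le_four {σ : F ≃+* F} (h : ∀ x : F, x ≠ 0 → x * σ x = 1) : Fintype.card F ≤ 4 := by
  classical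
  have key : ∀ x : F, x ≠ 0 → x + 1 ≠ 0 → x * x + x + 1 = 0 := by
    intro x hx hx1
    have h1 := h (x + 1) hx1
    rw [map_add, map_one] at h1
    have h2 := h x hx
    linear_combination x * h1 - (x + 1) * h2
  by_cases hex : ∃ x0 : F, x0 ≠ 0 ∧ x0 + 1 ≠ 0
  · obtain ⟨x0, hx0, hx01⟩ := hex
    have hsub : (Finset.univ : Finset F) ⊆ {0, -1, x0, -1 - x0} := by
      intro x _
      simp only [Finset.mem_insert, Finset.mem_singleton]
      rcases eq_or_ne x 0 with hx | hx
      · exact Or.inl hx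
      rcases eq_or_ne (x + 1) 0 with hx1 | hx1
      · exact Or.inr (Or.inl (eq_neg_of_add_eq_zero_left hx1))
      have h1 : (x - x0) * (x + x0 + 1) = 0 := by linear_combination key x hx hx1 - key x0 hx0 hx01
      rcases mul_eq_zero.1 h1 with h2 | h2
      · exact Or.inr (Or.inr (Or.inl (sub_eq_zero.1 h2)))
      · exact Or.inr (Or.inr (Or.inr (by linear_combination h2)))
    exact (Finset.card_le_card hsub).trans Finset.card_le_four
  · push Not at hex
    have hsub : (Finset.univ : Finset F) ⊆ {0, -1} := by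
      intro x _
      simp only [Finset.mem_insert, Finset.mem_singleton]
      rcases eq_or_ne x 0 with hx | hx
      · exact Or.inl hx
      · exact Or.inr (eq_neg_of_add_eq_zero_left (hex x hx))
    exact ((Finset.card_le_card hsub).trans Finset.card_le_two).trans (by norm_num)

variable {H : Subgroup (MulAut (Matrix.ProjectiveSpecialLinearGroup (Fin 2) F))} (hPe : Pe H)
  (hInn : Cfsg.Inn (Matrix.ProjectiveSpecialLinearGroup (Fin 2) F) ≤ H)
include hPe hInn

theorem rho_mem_of_det {A : GL (Fin 2) F} {c : Fˣ} (h : c ^ 2 = Matrix.GeneralLinearGroup.det A) : rho A ∈ H :=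
  hInn ((mem_inn_iff le_rfl A).2 ⟨c, h⟩)

theorem normalize {A : GL (Fin 2) F} {σ : F ≃+* F} (h : semiAut A σ ∈ H) (c : Fˣ) :
    semiAut (d2 (Matrix.GeneralLinearGroup.det A * c ^ 2)) σ ∈ H := by
  set e := Matrix.GeneralLinearGroup.det A with he
  have h1 : rho (d2 (e * c ^ 2) * A⁻¹) ∈ H := by
    refine rho_mem_of_det hPe hInn (c := c) ?_
    rw [map_mul, map_inv, det_d2, ← he, mul_comm e, mul_inv_cancel_right]
  have := mul_mem h1 h
  rwa [rho_mul_semi, inv_mul_cancel_right] at this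

theorem std_mem {A : GL (Fin 2) F} {σ : F ≃+* F} (h : semiAut A σ ∈ H)
    (hsq : ∃ c, c ^ 2 = Matrix.GeneralLinearGroup.det A) : semiAut 1 σ ∈ H := by
  obtain ⟨c, hc⟩ := hsq
  have := normalize hPe hInn h c⁻¹
  rwa [← hc, ← mul_pow, mul_inv_cancel, one_pow, map_one] at this

theorem no_std_two {τ : F ≃+* F} (hφ : semiAut (1 : GL (Fin 2) F) τ ∈ H) (hτ : orderOf τ = 2)
    {A B : GL (Fin 2) F} (hA : rho A ∈ H) (hB : rho B ∈ H) (hA1 : rho A ≠ 1) (hAo : Odd (orderOf (rho A)))
    (hτA : Matrix.GeneralLinearGroup.map τ.toRingHom A = A) (hAB : A * B = B * A) :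
    ∃ c : Fˣ, Matrix.GeneralLinearGroup.map τ.toRingHom B = scl c * B := by
  rw [← commute_std_iff]
  set φ := semiAut (1 : GL (Fin 2) F) τ with hφdef
  have hφo : orderOf φ = 2 := by rw [hφdef, orderOf_std le_rfl, hτ]
  have hc : Commute φ (rho A) := (commute_std_iff τ A).2 ⟨1, by rw [hτA, scl_one, one_mul]⟩
  obtain ⟨h1, h2⟩ := mem_zpowers_pair hφo hAo hc
  have hd : 2 ∣ orderOf (φ * rho A) := hφo.symm.dvd.trans (orderOf_dvd_of_mem_zpowers h1)
  have hfix : rho B * rho A * (rho B)⁻¹ = rho A := by rw [← map_mul, ← hAB, map_mul, mul_inv_cancel_right]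
  have h3 := hPe _ (mul_mem hφ hA) hd _ h2 hA1 _ hB (hfix.symm ▸ Subgroup.mem_zpowers _)
  rw [← conj_mul, hfix] at h3
  have h4 := mul_mem h3 (inv_mem h2)
  rw [mul_inv_cancel_right] at h4
  exact (mul_inv_eq_iff_eq_mul.1 (invol_unique h4 h1 (by rw [orderOf_conj, hφo]) hφo)).symm

theorem no_std_odd {τ : F ≃+* F} (hφ : semiAut (1 : GL (Fin 2) F) τ ∈ H) (ho : Odd (orderOf τ)) (hτ : τ ≠ 1) :
    False := by
  set φ := semiAut (1 : GL (Fin 2) F) τ with hφdef
  have hφo : orderOf φ = orderOf τ := orderOf_std le_rfl τ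
  have hφ1 : φ ≠ 1 := fun h => hτ (orderOf_eq_one_iff.1 (by rw [← hφo, h, orderOf_one]))
  have hw2 : orderOf (rho (J2 : GL (Fin 2) F)) = 2 := by
    refine orderOf_eq_two ?_ ?_
    · rw [← map_mul, show (J2 : GL (Fin 2) F) * J2 = scl (-1) from Units.ext (by
        rw [Units.val_mul, J2_coe, scl_coe]
        ext i j; fin_cases i <;> fin_cases j <;> simp [Matrix.mul_apply]), rho_apply, semiAut_scl]
    · intro h
      obtain ⟨-, c, hc⟩ := semi_eq_one le_rfl (A := (J2 : GL (Fin 2) F)) h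
      have := congrFun (congrFun hc 0) 1
      simp [J2_coe] at this
  have hcw : Commute (rho J2) φ := ((commute_std_iff τ J2).2 ⟨1, by rw [map_J2, scl_one, one_mul]⟩).symm
  obtain ⟨h1, h2⟩ := mem_zpowers_pair hw2 (hφo.symm ▸ ho) hcw
  have hUφ : Commute φ (rho (U2 1)) := (commute_std_iff τ _).2 ⟨1, by rw [map_U2, map_one, scl_one, one_mul]⟩
  have hfix : rho (U2 1) * φ * (rho (U2 1))⁻¹ = φ := by rw [← hUφ.eq, mul_inv_cancel_right]
  have hJH : rho (J2 : GL (Fin 2) F) ∈ H := rho_mem_of_det hPe hInn (c := 1) (by rw [det_J2, one_pow])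
  have hUH : rho (U2 (1 : F)) ∈ H := rho_mem_of_det hPe hInn (c := 1) (by rw [det_U2, one_pow])
  have h3 := hPe _ (mul_mem hJH hφ) (hw2.symm.dvd.trans (orderOf_dvd_of_mem_zpowers h1)) _ h2 hφ1 _ hUH
    (hfix.symm ▸ Subgroup.mem_zpowers _)
  rw [← conj_mul, hfix] at h3
  have h4 := mul_mem h3 (inv_mem h2)
  rw [mul_inv_cancel_right] at h4
  have h5 := mul_inv_eq_iff_eq_mul.1 (invol_unique h4 h1 (by rw [orderOf_conj, hw2]) hw2)
  rw [← map_mul, ← map_mul, rho_apply, rho_apply] at h5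
  obtain ⟨-, c, hc⟩ := (semi_eq_iff le_rfl).1 h5
  have e0 := entry hc 0 0
  have e1 := entry hc 0 1
  simp [U2_coe, J2_coe, Matrix.mul_apply] at e0 e1

theorem no_semi_two {A : GL (Fin 2) F} {σ : F ≃+* F} (h : semiAut A σ ∈ H) (hσ : orderOf σ = 2)
    (h4 : 4 < Fintype.card F) : False := by
  have hσσ : ∀ x, σ (σ x) = x := fun x => by
    have h1 : σ * σ = 1 := by rw [← pow_two, ← hσ, pow_orderOf_eq_one]
    exact RingEquiv.congr_fun h1 x
  obtain ⟨b, hb⟩ : ∃ b, σ b ≠ b := by
    by_contra hh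
    push Not at hh
    have h1 : σ = 1 := RingEquiv.ext hh
    rw [h1, orderOf_one] at hσ
    omega
  by_cases hsq : ∃ c, c ^ 2 = Matrix.GeneralLinearGroup.det A
  · have hφ := std_mem hPe hInn h hsq
    by_cases h2 : (2 : F) = 0
    · -- diagonal elements
      obtain ⟨a, ha0, ha1⟩ : ∃ a : F, a ≠ 0 ∧ a * σ a ≠ 1 := by
        by_contra hh
        push Not at hh
        have := card_le_four hh
        omega
      set u := Units.mk0 (a * σ a) (mul_ne_zero ha0 (by simpa using ha0)) with hu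
      have hb0 : b ≠ 0 := fun e => hb (by simp [e])
      have hmem : ∀ v : Fˣ, rho (d2 v) ∈ H := fun v => by
        obtain ⟨c, hc⟩ := square_of_char_two h2 v
        exact rho_mem_of_det hPe hInn (c := c) (by rw [det_d2, hc])
      have hne : rho (d2 u) ≠ 1 := by
        intro he
        obtain ⟨-, c, hc⟩ := semi_eq_one le_rfl (A := d2 u) he
        have e0 := congrFun (congrFun hc 0) 0
        have e1 := congrFun (congrFun hc 1) 1
        simp [d2_coe] at e0 e1
        exact ha1 (by rw [← e1] at e0; simpa [hu] using e0)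
      have hodd : Odd (orderOf (rho (d2 u))) := by
        refine Odd.of_dvd_nat ?_ ((orderOf_map_dvd (rho.comp d2) u).trans (orderOf_dvd_natCard u))
        rw [Nat.card_units, Nat.card_eq_fintype_card]
        have hc : Even (Fintype.card F) := by
          rw [even_iff_two_dvd]
          have h2' : addOrderOf (1 : F) = 2 := addOrderOf_eq_prime (by simpa [two_smul] using (one_add_one_eq_two.trans h2)) one_ne_zero
          exact h2' ▸ addOrderOf_dvd_card
        exact Nat.Even.sub_odd (by omega) hc odd_one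
      obtain ⟨c, hc⟩ := no_std_two hPe hInn hφ hσ (hmem u) (hmem (Units.mk0 b hb0)) hne hodd
        (by rw [map_d2]; congr 1; exact Units.ext (by
          show σ (a * σ a) = a * σ a
          rw [map_mul, hσσ, mul_comm]))
        (by rw [← map_mul, mul_comm, map_mul])
      rw [map_d2] at hc
      have e0 := entry hc 0 0
      have e1 := entry hc 1 1
      simp [d2_coe] at e0 e1
      exact hb (by rw [← e1] at e0; simpa using e0)
    · -- unipotent elements
      have hmem : ∀ x : F, rho (U2 x) ∈ H := fun x => rho_mem_of_det hPe hInn (c := 1) (by rw [det_U2, one_pow])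
      have hne : rho (U2 (1 : F)) ≠ 1 := by
        intro he
        obtain ⟨-, c, hc⟩ := semi_eq_one le_rfl (A := U2 (1 : F)) he
        have e1 := congrFun (congrFun hc 0) 1
        simp [U2_coe] at e1
      obtain ⟨p, hchar⟩ := CharP.exists F
      have hp : p.Prime := CharP.char_is_prime F p
      have hodd : Odd (orderOf (rho (U2 (1 : F)))) := by
        refine Odd.of_dvd_nat (hp.odd_of_ne_two fun e => h2 ?_) (orderOf_dvd_of_pow_eq_one ?_)
        · subst e
          exact_mod_cast CharP.cast_eq_zero F 2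
        · rw [← map_pow, U2_pow, nsmul_one, CharP.cast_eq_zero]
          show rho (U2 0) = 1
          rw [show U2 (0 : F) = 1 from Units.ext (by
            rw [U2_coe, Units.val_one]; ext i j; fin_cases i <;> fin_cases j <;> simp), map_one]
      obtain ⟨c, hc⟩ := no_std_two hPe hInn hφ hσ (hmem 1) (hmem b) hne hodd
        (by rw [map_U2, map_one]) (by rw [U2_mul, U2_mul, add_comm])
      rw [map_U2] at hc
      have e0 := entry hc 0 0
      have e1 := entry hc 0 1
      simp [U2_coe] at e0 e1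
      exact hb (by rw [e1, ← e0]; simp)
  · -- the determinant is a nonsquare
    have h2 : (2 : F) ≠ 0 := fun e => hsq (square_of_char_two e _)
    obtain ⟨g, hgen⟩ := IsCyclic.exists_generator (α := Fˣ)
    have hgsq : ¬ ∃ c, c ^ 2 = g := by
      rintro ⟨c, hc⟩
      obtain ⟨k, hk⟩ := Subgroup.mem_zpowers_iff.1 (hgen (Matrix.GeneralLinearGroup.det A))
      exact hsq ⟨c ^ k, by rw [← hk, ← hc, pow_two, pow_two, (Commute.refl c).mul_zpow]⟩
    obtain ⟨c, hc⟩ : ∃ c, c ^ 2 = Matrix.GeneralLinearGroup.det A * g := by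
      rcases square_or (Matrix.GeneralLinearGroup.det A) g with h' | h' | h'
      exacts [h', absurd h' hsq, absurd h' hgsq]
    have hβ : semiAut (d2 g) σ ∈ H := by
      have := normalize hPe hInn h (c * (Matrix.GeneralLinearGroup.det A)⁻¹)
      rwa [mul_pow, hc, inv_pow, pow_two, _root_.mul_inv_rev, mul_comm (Matrix.GeneralLinearGroup.det A) g,
        mul_assoc g, mul_inv_cancel_left, mul_left_comm, mul_inv_cancel, mul_one] at this
    set β := semiAut (d2 g) σ with hβdef
    set u := g * Units.map σ.toRingHom.toMonoidHom g with hu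
    have hsq2 : β * β = rho (d2 u) := by
      rw [hβdef, semiAut_mul, map_d2, ← map_mul, rho_apply]
      congr 1
      exact RingEquiv.ext fun x => hσσ x
    have hd : 2 ∣ orderOf β := by
      have h1 := pow_orderOf_eq_one β
      rw [hβdef, semiAut_pow] at h1
      exact hσ.symm.dvd.trans (orderOf_dvd_of_pow_eq_one ((semi_eq_one le_rfl h1).1))
    have hu1 : u ≠ 1 := by
      intro hu1
      have := card_le_four (σ := σ) (fun x hx => by
        obtain ⟨k, hk⟩ := Subgroup.mem_zpowers_iff.1 (hgen (Units.mk0 x hx))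
        have h1 : Units.mk0 x hx * Units.map σ.toRingHom.toMonoidHom (Units.mk0 x hx) = 1 := by
          rw [← hk, map_zpow, ← mul_zpow, ← hu, hu1, _root_.one_zpow]
        simpa using congrArg Units.val h1)
      omega
    have hββ : β * β ≠ 1 := by
      rw [hsq2]
      intro he
      obtain ⟨-, c, hc⟩ := semi_eq_one le_rfl (A := d2 u) he
      have e0 := congrFun (congrFun hc 0) 0
      have e1 := congrFun (congrFun hc 1) 1
      simp [d2_coe] at e0 e1
      exact hu1 (Units.ext (by rw [← e1] at e0; simpa using e0))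
    have hJd : ∀ v : Fˣ, rho J2 * rho (d2 v) = rho (d2 v⁻¹) * rho (J2 : GL (Fin 2) F) := by
      intro v
      rw [← map_mul, ← map_mul, rho_apply, rho_apply, semi_eq_iff le_rfl]
      refine ⟨rfl, v, Units.ext ?_⟩
      simp only [Units.val_mul, scl_coe, d2_coe, J2_coe]
      ext i j; fin_cases i <;> fin_cases j <;> simp [Matrix.mul_apply]
    have hJH : rho (J2 : GL (Fin 2) F) ∈ H := rho_mem_of_det hPe hInn (c := 1) (by rw [det_J2, one_pow])
    have hbb : β * β ∈ Subgroup.zpowers β := mul_mem (Subgroup.mem_zpowers β) (Subgroup.mem_zpowers β)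
    have hinvm : rho J2 * (β * β) * (rho J2)⁻¹ ∈ Subgroup.zpowers (β * β) := by
      rw [hsq2, hJd, mul_inv_cancel_right, map_inv, map_inv]
      exact inv_mem (Subgroup.mem_zpowers _)
    obtain ⟨j, hj⟩ := Subgroup.mem_zpowers_iff.1 (hPe β hβ hd _ hbb hββ _ hJH hinvm)
    have hconj : rho J2 * β * (rho J2)⁻¹ = semiAut (d2 g⁻¹) σ := by
      rw [mul_inv_eq_iff_eq_mul, hβdef, rho_mul_semi, semi_mul_rho, map_J2, semi_eq_iff le_rfl]
      refine ⟨rfl, g, Units.ext ?_⟩
      simp only [Units.val_mul, scl_coe, d2_coe, J2_coe]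
      ext i j; fin_cases i <;> fin_cases j <;> simp [Matrix.mul_apply]
    rw [hconj] at hj
    rcases Int.even_or_odd j with ⟨l, rfl⟩ | ⟨l, rfl⟩
    · rw [_root_.zpow_add, ← (Commute.refl β).mul_zpow, hsq2, ← map_zpow, rho_apply] at hj
      have h1 := ((semi_eq_iff le_rfl).1 hj).1
      rw [← h1, show RingEquiv.refl F = (1 : F ≃+* F) from rfl, orderOf_one] at hσ
      omega
    · rw [_root_.zpow_add_one, _root_.zpow_mul, zpow_two, hsq2, ← map_zpow, hβdef, rho_mul_semi] at hj
      obtain ⟨-, c, hc⟩ := (semi_eq_iff le_rfl).1 hj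
      rw [show d2 u ^ l * d2 g = (d2 (u ^ l * g) : GL (Fin 2) F) by rw [map_mul d2 (u ^ l) g, map_zpow d2 u l]] at hc
      have e0 := entry hc 0 0
      have e1 := entry hc 1 1
      rw [d2_coe, d2_coe] at e0 e1
      simp at e0 e1
      rw [← e1, one_mul] at e0
      have hge : u ^ l * g = g⁻¹ := Units.ext (by simpa using e0)
      set m := Units.map σ.toRingHom.toMonoidHom with hm
      have hmu : m u = u := by
        rw [hu, map_mul, show m (m g) = g from Units.ext (hσσ g), mul_comm]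
      have hg2 : m (g ^ 2) = g ^ 2 := by
        have h1 : g ^ 2 = (u ^ l)⁻¹ := by
          rw [pow_two, eq_inv_iff_mul_eq_one, mul_assoc, mul_comm g (u ^ l), hge, mul_inv_cancel]
        rw [h1, map_inv, map_zpow, hmu]
      have hsqf : ∀ y : F, σ (y * y) = y * y := by
        intro y
        rcases eq_or_ne y 0 with rfl | hy
        · simp
        obtain ⟨k, hk⟩ := Subgroup.mem_zpowers_iff.1 (hgen (Units.mk0 y hy))
        have h1 : m (Units.mk0 y hy * Units.mk0 y hy) = Units.mk0 y hy * Units.mk0 y hy := by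
          rw [← hk, ← (Commute.refl g).mul_zpow, ← pow_two, map_zpow, hg2]
        simpa [hm] using congrArg Units.val h1
      apply hb
      have h1 := hsqf (b + 1)
      have h3 := hsqf b
      simp only [map_mul, map_add, map_one] at h1 h3
      exact mul_left_cancel₀ h2 (by linear_combination h1 - h3)

theorem field_trivial {A : GL (Fin 2) F} {σ : F ≃+* F} (h : semiAut A σ ∈ H) (h4 : 4 < Fintype.card F) :
    σ = RingEquiv.refl F := by
  by_contra hσ
  have hne : orderOf σ ≠ 1 := fun e => hσ (orderOf_eq_one_iff.1 e)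
  have hr := Nat.minFac_prime hne
  set r := (orderOf σ).minFac with hrdef
  haveI : Finite (F ≃+* F) := Finite.of_injective (fun e => (e : F → F)) DFunLike.coe_injective
  have hpos := orderOf_pos σ
  set τ := σ ^ (orderOf σ / r) with hτdef
  have hτ : orderOf τ = r := by
    rw [hτdef, orderOf_pow_orderOf_div hpos.ne' (Nat.minFac_dvd _)]
  have hτH : semiAut (semiPow A σ (orderOf σ / r)) τ ∈ H := by
    rw [hτdef, ← semiAut_pow]; exact pow_mem h _
  set B := semiPow A σ (orderOf σ / r)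
  rcases hr.eq_two_or_odd' with h2 | h2
  · exact no_semi_two hPe hInn hτH (hτ.trans h2) h4
  · have hτ1 : τ ≠ 1 := fun e => hr.ne_one (by rw [← hτ, e, orderOf_one])
    rcases square_or (Matrix.GeneralLinearGroup.det B) (Units.map τ.toRingHom.toMonoidHom (Matrix.GeneralLinearGroup.det B))
      with ⟨c, hc⟩ | h' | ⟨c, hc⟩
    · have h2' := mul_mem hτH hτH
      rw [semiAut_mul] at h2'
      have hdet : Matrix.GeneralLinearGroup.det (Matrix.GeneralLinearGroup.map τ.toRingHom B) =
          Units.map τ.toRingHom.toMonoidHom (Matrix.GeneralLinearGroup.det B) :=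
        Units.ext (RingHom.map_det τ.toRingHom _).symm
      have h3 := std_mem hPe hInn h2' ⟨c, by rw [map_mul, hdet, hc]⟩
      have e : τ.trans τ = τ ^ 2 := by rw [pow_two]; rfl
      rw [e] at h3
      have ho : orderOf (τ ^ 2) = r := by
        rw [Nat.Coprime.orderOf_pow (by rw [hτ]; exact Nat.coprime_two_right.2 h2), hτ]
      exact no_std_odd hPe hInn h3 (ho ▸ h2) fun e => hr.ne_one (by rw [← ho, e, orderOf_one])
    · exact no_std_odd hPe hInn (std_mem hPe hInn hτH h') (hτ ▸ h2) hτ1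
    · refine no_std_odd hPe hInn (std_mem hPe hInn hτH ⟨Units.map τ.symm.toRingHom.toMonoidHom c, ?_⟩) (hτ ▸ h2) hτ1
      rw [← map_pow, hc]
      exact Units.ext (τ.symm_apply_apply _)

theorem inn_or_pgl (h4 : 4 < Fintype.card F) :
    H = Cfsg.Inn (Matrix.ProjectiveSpecialLinearGroup (Fin 2) F) ∨ H = (rho (F := F)).range := by
  have hle : H ≤ (rho (F := F)).range := by
    intro α hα
    obtain ⟨A, σ, rfl⟩ := exists_semi2 α
    obtain rfl := field_trivial hPe hInn hα h4
    exact ⟨A, rfl⟩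
  by_cases hall : ∀ A : GL (Fin 2) F, rho A ∈ H → ∃ c, c ^ 2 = Matrix.GeneralLinearGroup.det A
  · refine Or.inl (le_antisymm (fun α hα => ?_) hInn)
    obtain ⟨A, rfl⟩ := hle hα
    exact (mem_inn_iff le_rfl A).2 (hall A hα)
  · push Not at hall
    obtain ⟨A0, hA0, hsq0⟩ := hall
    refine Or.inr (le_antisymm hle ?_)
    rintro _ ⟨A, rfl⟩
    rcases square_or (Matrix.GeneralLinearGroup.det A) (Matrix.GeneralLinearGroup.det A0) with ⟨c, hc⟩ | ⟨c, hc⟩ | ⟨c, hc⟩
    · have := mul_mem (rho_mem_of_det hPe hInn (A := A * A0) (c := c) (by rw [map_mul, hc])) (inv_mem hA0)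
      rwa [map_mul, mul_inv_cancel_right] at this
    · exact rho_mem_of_det hPe hInn hc
    · exact absurd hc (hsq0 c)

end Aut

theorem rho_ker {F : Type} [Field F] [Fintype F] :
    (rho (F := F)).ker = Subgroup.center (GL (Fin 2) F) := by
  ext A
  rw [MonoidHom.mem_ker]
  constructor
  · intro h
    obtain ⟨-, c, hc⟩ := CfsgLib.KnownC.AutPSL.semi_eq_one le_rfl (A := A) h
    rw [Subgroup.mem_center_iff]
    intro B
    refine Units.ext ?_
    rw [Units.val_mul, Units.val_mul, hc]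
    simp
  · intro h
    rw [Matrix.GeneralLinearGroup.center_eq_range_scalar] at h
    obtain ⟨c, rfl⟩ := h
    exact CfsgLib.KnownC.AutPSL.semiAut_scl c

theorem pgl_equiv {F : Type} [Field F] [Fintype F] :
    Nonempty (Matrix.ProjGenLinGroup (Fin 2) F ≃* (rho (F := F)).range) :=
  ⟨(QuotientGroup.quotientMulEquivOfEq rho_ker.symm).trans (QuotientGroup.quotientKerEquivRange rho)⟩

theorem psl_five_four {F : Type} [Field F] [Fintype F] (hF : Fintype.card F = 4) :
    Nonempty (Matrix.ProjectiveSpecialLinearGroup (Fin 2) F ≃* Matrix.ProjectiveSpecialLinearGroup (Fin 2) (ZMod 5)) := by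
  classical
  haveI : Fact (Nat.Prime 5) := ⟨by norm_num⟩
  haveI : IsSimpleGroup (Matrix.ProjectiveSpecialLinearGroup (Fin 2) (ZMod 5)) :=
    CfsgLib.Classical.psl_fin_isSimpleGroup le_rfl fun _ => by rw [ZMod.card]; norm_num
  have hc := CfsgLib.Char.FewSylow.card_psl_two (F := ZMod 5)
  rw [ZMod.card] at hc
  have h60 : Nat.card (Matrix.ProjectiveSpecialLinearGroup (Fin 2) (ZMod 5)) = 60 := by
    norm_num at hc ⊢; omega
  obtain ⟨e⟩ := Cfsg.Agent.S0494.result h60
  obtain ⟨e'⟩ := CfsgLib.Classical.Quat.psl2_four_equiv_alt hF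
  exact ⟨e'.trans e.symm⟩

theorem main [Nontrivial G] (hG : Ii G) (hss : ∀ N : Subgroup G, N.Normal → Group.IsSolvable ↥N → N = ⊥) :
    ∃ (F : Type) (_ : Field F) (_ : Fintype F), 3 < Fintype.card F ∧
      (Nonempty (G ≃* Matrix.ProjectiveSpecialLinearGroup (Fin 2) F) ∨
        Nonempty (G ≃* Matrix.ProjGenLinGroup (Fin 2) F)) := by
  obtain ⟨N, hNn, hNs, hNns, hNc⟩ := exists_simple_normal hG hss
  haveI := hNn
  haveI := hNs
  obtain ⟨F, iF, iFF, h4, ⟨e⟩⟩ : ∃ (F : Type) (_ : Field F) (_ : Fintype F), 4 < Fintype.card F ∧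
      Nonempty (N ≃* Matrix.ProjectiveSpecialLinearGroup (Fin 2) F) := by
    obtain ⟨F, iF, iFF, h3, ⟨e⟩⟩ := exists_psl (ii_subgroup hG N) hNns
    by_cases hF : Fintype.card F = 4
    · haveI : Fact (Nat.Prime 5) := ⟨by norm_num⟩
      obtain ⟨e'⟩ := psl_five_four hF
      exact ⟨ZMod 5, inferInstance, inferInstance, by rw [ZMod.card]; norm_num, ⟨e.trans e'⟩⟩
    · exact ⟨F, iF, iFF, by omega, ⟨e⟩⟩
  set ψ : G →* MulAut (Matrix.ProjectiveSpecialLinearGroup (Fin 2) F) :=
    (MulAut.congr e).toMonoidHom.comp (MulAut.conjNormal (H := N)) with hψ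
  have hψinj : Function.Injective ψ := by
    rw [injective_iff_map_eq_one]
    intro g hg
    have h1 : MulAut.conjNormal (H := N) g = 1 := by
      have h2 : MulAut.congr e (MulAut.conjNormal (H := N) g) = MulAut.congr e 1 := by rw [map_one]; exact hg
      exact (MulAut.congr e).injective h2
    have h2 : g ∈ Subgroup.centralizer (N : Set G) := Subgroup.mem_centralizer_iff.2 fun n hn => by
      have := congrArg Subtype.val (DFunLike.congr_fun h1 ⟨n, hn⟩)
      simp only [MulAut.conjNormal_apply, MulAut.one_apply] at this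
      exact (mul_inv_eq_iff_eq_mul.1 this).symm
    rwa [hNc, Subgroup.mem_bot] at h2
  have hInn : Cfsg.Inn (Matrix.ProjectiveSpecialLinearGroup (Fin 2) F) ≤ ψ.range := by
    rintro _ ⟨x, rfl⟩
    refine ⟨(e.symm x : N), MulEquiv.ext fun y => ?_⟩
    have key : MulAut.conjNormal (H := N) ((e.symm x : N) : G) = MulAut.conj (e.symm x) :=
      MulEquiv.ext fun n => Subtype.ext (by simp [MulAut.conjNormal_apply])
    show e (MulAut.conjNormal (H := N) ((e.symm x : N) : G) (e.symm y)) = MulAut.conj x y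
    rw [key, MulAut.conj_apply, MulAut.conj_apply, map_mul, map_mul, map_inv, e.apply_symm_apply, e.apply_symm_apply]
  refine ⟨F, iF, iFF, by omega, ?_⟩
  let eG := MonoidHom.ofInjective hψinj
  rcases inn_or_pgl (pe_range hG ψ hψinj) hInn h4 with h | h
  · exact Or.inl ⟨(eG.trans (MulEquiv.subgroupCongr h)).trans
      (MonoidHom.ofInjective (CfsgLib.KnownC.AutPSL.Balance.conj_injective (F := F) (n := 2) le_rfl)).symm⟩
  · obtain ⟨e'⟩ := pgl_equiv (F := F)
    exact Or.inr ⟨(eG.trans (MulEquiv.subgroupCongr h)).trans e'.symm⟩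

end CfsgLib.Characterizations.IIGroup
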