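import Cfsg.Agent.Lib.Involution.Dihedral
import Mathlib

/-!
# Groups in which `N(X) = N(Y)` for `1 ≠ Y ≤ X`, `X` cyclic of even order: basic facts
-/

set_option autoImplicit false
set_option linter.unusedSectionVars false

namespace CfsgLib.Characterizations.IIGroup

open CfsgLib.Involution.Dihedral

universe u

variable {G : Type u} [Group G] [Finite G]

/-- The defining property. -/
def Ii (G : Type*) [Group G] : Prop :=
  ∀ X : Subgroup G, IsCyclic ↥X → Even (Nat.card ↥X) → ∀ Y : Subgroup G, Y ≤ X → Y ≠ ⊥ →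
    Subgroup.normalizer (X : Set G) = Subgroup.normalizer (Y : Set G)

theorem mem_C {t g : G} : g ∈ Subgroup.centralizer ({t} : Set G) ↔ g * t = t * g :=
  Subgroup.mem_centralizer_singleton_iff

theorem mem_C_conj {t g : G} : g ∈ Subgroup.centralizer ({t} : Set G) ↔ g * t * g⁻¹ = t := by
  rw [mem_C, mul_inv_eq_iff_eq_mul]

theorem centralizer_conj (g t x : G) :
    x ∈ Subgroup.centralizer ({g * t * g⁻¹} : Set G) ↔ g⁻¹ * x * g ∈ Subgroup.centralizer ({t} : Set G) := by
  rw [mem_C, mem_C]
  constructor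
  · intro h
    calc g⁻¹ * x * g * t = g⁻¹ * (x * (g * t * g⁻¹)) * g := by group
      _ = g⁻¹ * ((g * t * g⁻¹) * x) * g := by rw [h]
      _ = t * (g⁻¹ * x * g) := by group
  · intro h
    calc x * (g * t * g⁻¹) = g * (g⁻¹ * x * g * t) * g⁻¹ := by group
      _ = g * (t * (g⁻¹ * x * g)) * g⁻¹ := by rw [h]
      _ = g * t * g⁻¹ * x := by group

theorem conj_mem_zpowers {g x y : G} (hg : g ∈ Subgroup.normalizer (Subgroup.zpowers x : Set G))
    (hy : y ∈ Subgroup.zpowers x) : g * y * g⁻¹ ∈ Subgroup.zpowers x :=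
  (Subgroup.mem_normalizer_iff.1 hg y).1 hy

theorem mem_zpowers_pair {t x : G} (ht : orderOf t = 2) (hx : Odd (orderOf x)) (hc : Commute t x) :
    t ∈ Subgroup.zpowers (t * x) ∧ x ∈ Subgroup.zpowers (t * x) := by
  obtain ⟨k, hk⟩ := hx
  have h1 : (t * x) ^ orderOf x = t := by
    rw [hc.mul_pow, pow_orderOf_eq_one, mul_one, hk, pow_succ, pow_mul, pow_two, mul_self ht, one_pow, one_mul]
  have h2 : t ∈ Subgroup.zpowers (t * x) := by
    have := Subgroup.pow_mem _ (Subgroup.mem_zpowers (t * x)) (orderOf x)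
    rwa [h1] at this
  refine ⟨h2, ?_⟩
  have := mul_mem (inv_mem h2) (Subgroup.mem_zpowers (t * x))
  rwa [inv_mul_cancel_left] at this

theorem normalizer_zpowers_two {t : G} (ht : orderOf t = 2) :
    Subgroup.normalizer (Subgroup.zpowers t : Set G) = Subgroup.centralizer ({t} : Set G) := by
  ext g
  constructor
  · intro hg
    obtain ⟨k, hk⟩ := Subgroup.mem_zpowers_iff.1 (conj_mem_zpowers hg (Subgroup.mem_zpowers t))
    rw [mem_C_conj]
    rcases Int.even_or_odd k with ⟨j, rfl⟩ | ⟨j, rfl⟩
    · rw [zpow_add, ← (Commute.refl t).mul_zpow j, mul_self ht, one_zpow] at hk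
      exact absurd (conj_eq_one_iff.1 hk.symm) (ne_one ht)
    · rw [zpow_add_one, zpow_mul, zpow_two, mul_self ht, one_zpow, one_mul] at hk
      exact hk.symm
  · intro hg
    rw [Subgroup.mem_normalizer_iff]
    intro h
    rw [mem_C] at hg
    have key : ∀ y ∈ Subgroup.zpowers t, g * y = y * g := by
      rintro _ ⟨k, rfl⟩
      exact (Commute.zpow_right hg k).eq
    constructor
    · intro hh
      rwa [key h hh, mul_inv_cancel_right]
    · intro hh
      have h2 := key _ hh
      rw [inv_mul_cancel_right] at h2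
      have h3 : g * h * g⁻¹ = h := by
        apply mul_left_cancel (a := g)
        rw [h2]
      rwa [h3] at hh

variable (hG : Ii G)
include hG

/-- An element of odd order centralised by an involution. -/
theorem norm_odd {t x : G} (ht : orderOf t = 2) (hx : Odd (orderOf x)) (hx1 : x ≠ 1) (hc : Commute t x) :
    Subgroup.normalizer (Subgroup.zpowers x : Set G) = Subgroup.centralizer ({t} : Set G) := by
  obtain ⟨h1, h2⟩ := mem_zpowers_pair ht hx hc
  have hev : Even (Nat.card (Subgroup.zpowers (t * x))) := by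
    rw [even_iff_two_dvd]
    have := orderOf_dvd_natCard (⟨t, h1⟩ : Subgroup.zpowers (t * x))
    rwa [Subgroup.orderOf_mk, ht] at this
  rw [← hG _ inferInstance hev (Subgroup.zpowers x) (Subgroup.zpowers_le.2 h2) (by simpa using hx1),
    hG _ inferInstance hev (Subgroup.zpowers t) (Subgroup.zpowers_le.2 h1) (by simpa using ne_one ht),
    normalizer_zpowers_two ht]

/-- A cyclic group with involution `t`. -/
theorem norm_root {t u : G} (ht : orderOf t = 2) (htu : t ∈ Subgroup.zpowers u) :
    Subgroup.normalizer (Subgroup.zpowers u : Set G) = Subgroup.centralizer ({t} : Set G) := by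
  have hev : Even (Nat.card (Subgroup.zpowers u)) := by
    rw [even_iff_two_dvd]
    have := orderOf_dvd_natCard (⟨t, htu⟩ : Subgroup.zpowers u)
    rwa [Subgroup.orderOf_mk, ht] at this
  rw [hG _ inferInstance hev (Subgroup.zpowers t) (Subgroup.zpowers_le.2 htu) (by simpa using ne_one ht),
    normalizer_zpowers_two ht]

theorem conj_mem_odd {t x c : G} (ht : orderOf t = 2) (hx : Odd (orderOf x)) (hx1 : x ≠ 1) (hc : Commute t x)
    (hcC : c ∈ Subgroup.centralizer ({t} : Set G)) : c * x * c⁻¹ ∈ Subgroup.zpowers x := by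
  rw [← norm_odd hG ht hx hx1 hc] at hcC
  exact conj_mem_zpowers hcC (Subgroup.mem_zpowers x)

theorem conj_mem_root {t u c : G} (ht : orderOf t = 2) (htu : t ∈ Subgroup.zpowers u)
    (hcC : c ∈ Subgroup.centralizer ({t} : Set G)) : c * u * c⁻¹ ∈ Subgroup.zpowers u := by
  rw [← norm_root hG ht htu] at hcC
  exact conj_mem_zpowers hcC (Subgroup.mem_zpowers u)

/-- Two involutions centralising a nontrivial element of odd order have the same centralizer. -/
theorem centralizer_eq {s t x : G} (hs : orderOf s = 2) (ht : orderOf t = 2) (hx : Odd (orderOf x)) (hx1 : x ≠ 1)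
    (hsx : Commute s x) (htx : Commute t x) :
    Subgroup.centralizer ({s} : Set G) = Subgroup.centralizer ({t} : Set G) := by
  rw [← norm_odd hG hs hx hx1 hsx, norm_odd hG ht hx hx1 htx]

/-- An involution of `C(t)` has the same centralizer as `t` or inverts every element of odd order. -/
theorem eq_or_inverts {s t x : G} (hs : orderOf s = 2) (ht : orderOf t = 2) (hst : Commute s t)
    (hx : Odd (orderOf x)) (htx : Commute t x)
    (hne : Subgroup.centralizer ({s} : Set G) ≠ Subgroup.centralizer ({t} : Set G)) : s * x * s⁻¹ = x⁻¹ := by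
  rcases eq_or_ne x 1 with rfl | hx1
  · simp
  obtain ⟨k, hk⟩ := Subgroup.mem_zpowers_iff.1
    (conj_mem_odd hG ht hx hx1 htx (mem_C.2 hst.eq))
  set y := s * x * s⁻¹ with hy
  have hyy : s * y * s⁻¹ = x := by
    rw [hy, inv_eq hs, ← mul_assoc, ← mul_assoc, mul_self hs, one_mul, mul_assoc, mul_self hs, mul_one]
  have hxy : x * y = y * x := by rw [← hk]; exact ((Commute.refl x).zpow_right k).eq
  have hfix : Commute s (x * y) := by
    have : s * (x * y) * s⁻¹ = x * y := by rw [← conj_mul, hyy, ← hy, hxy]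
    exact mul_inv_eq_iff_eq_mul.1 this
  have htxy : Commute t (x * y) := htx.mul_right (hk ▸ htx.zpow_right k)
  have hodd : Odd (orderOf (x * y)) := by
    refine hx.of_dvd_nat (orderOf_dvd_of_pow_eq_one ?_)
    rw [(show Commute x y from hxy).mul_pow, pow_orderOf_eq_one, hy, _root_.conj_pow, pow_orderOf_eq_one, mul_one,
      mul_inv_cancel, one_mul]
  have h1 : x * y = 1 := by
    by_contra h1
    exact hne (centralizer_eq hG hs ht hodd h1 hfix htxy)
  exact eq_inv_of_mul_eq_one_right h1

end CfsgLib.Characterizations.IIGroup
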