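import Cfsg.Agent.Lib.Characterizations.IIGroup.TwoGroup
import Cfsg.Agent.Lib.Recognition.AbelianCentraliser.Main
import Cfsg.Agent.Lib.Involution.ZStar.Main
import Cfsg.Agent.Lib.Fusion.Transfer
import Cfsg.Agent.Lib.OddOrder.Final.Main
import Cfsg.Agent.Lib.Perm.SharpThreeOdd
import Cfsg.Agent.Lib.Char.FewSylow.Cubed
import Cfsg.Agent.Lib.SmallGroups.NineTwoPrimes.Facts

/-!
# Groups in which `N(X) = N(Y)` for `1 ≠ Y ≤ X`, `X` cyclic of even order: the simple groups
-/

set_option autoImplicit false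
set_option linter.unusedSectionVars false

namespace CfsgLib.Characterizations.IIGroup

open CfsgLib.Involution.Dihedral

universe u

variable {G : Type u} [Group G] [Finite G]

/-- A nontrivial element of odd order commutes with `c`. -/
def HasOdd (c : G) : Prop := ∃ x, Odd (orderOf x) ∧ x ≠ 1 ∧ Commute c x

/-- Involutions with the same centralizer as `z`. -/
def CZ (z s : G) : Prop :=
  orderOf s = 2 ∧ Subgroup.centralizer ({s} : Set G) = Subgroup.centralizer ({z} : Set G)

/-- The choice of the central involution `z`. -/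
def Pref (T : Sylow 2 G) (z : G) : Prop :=
  ¬ HasOdd z → ∀ c, CentInv (T : Subgroup G) c → ¬ HasOdd c

theorem centralizer_eq_sylow (T : Sylow 2 G) {c : G} (hc : CentInv (T : Subgroup G) c) (h : ¬ HasOdd c) :
    Subgroup.centralizer ({c} : Set G) = T := by
  haveI : Fact (Nat.Prime 2) := ⟨Nat.prime_two⟩
  refine T.is_maximal' ?_ fun g hg => mem_C.2 (hc.2.2 g hg)
  intro x
  obtain ⟨k, m, hm, hkm⟩ := Nat.exists_eq_two_pow_mul_odd (orderOf_pos (x : G)).ne'
  refine ⟨k, Subtype.ext ?_⟩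
  simp only [SubmonoidClass.coe_pow, OneMemClass.coe_one]
  by_contra hne
  refine h ⟨(x : G) ^ 2 ^ k, ?_, hne, (show Commute (x : G) c from mem_C.1 x.2).symm.pow_right _⟩
  rw [orderOf_pow_of_dvd (by positivity) ⟨m, hkm⟩, hkm, Nat.mul_div_cancel_left _ (by positivity)]
  exact hm

theorem exists_conj_mem (T : Sylow 2 G) {x : G} {k : ℕ} (hx : x ^ 2 ^ k = 1) : ∃ g : G, g * x * g⁻¹ ∈ (T : Subgroup G) := by
  haveI : Fact (Nat.Prime 2) := ⟨Nat.prime_two⟩
  have hp : IsPGroup 2 (Subgroup.zpowers x) := by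
    refine IsPGroup.iff_orderOf.2 fun y => ?_
    obtain ⟨i, -, hi⟩ := (Nat.dvd_prime_pow Nat.prime_two).1
      (((orderOf_dvd_natCard y).trans (Nat.card_zpowers x).dvd).trans (orderOf_dvd_of_pow_eq_one hx))
    exact ⟨i, hi⟩
  obtain ⟨P, hP⟩ := hp.exists_le_sylow
  obtain ⟨g, hg⟩ := MulAction.exists_smul_eq G P T
  refine ⟨g, ?_⟩
  rw [← hg, Sylow.coe_subgroup_smul]
  exact Subgroup.smul_mem_pointwise_smul x (MulAut.conj g) _ (hP (Subgroup.mem_zpowers x))

theorem exists_conj_invol (T : Sylow 2 G) {x : G} (hx : orderOf x = 2) : ∃ g : G, g * x * g⁻¹ ∈ (T : Subgroup G) :=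
  exists_conj_mem T (k := 1) (by rw [pow_one, pow_two, mul_self hx])

theorem mem_sylow_of_normalized (T : Sylow 2 G) {x : G} {k : ℕ} (hx : x ^ 2 ^ k = 1)
    (hT : ∀ g ∈ (T : Subgroup G), g * x * g⁻¹ ∈ Subgroup.zpowers x) : x ∈ (T : Subgroup G) := by
  haveI : Fact (Nat.Prime 2) := ⟨Nat.prime_two⟩
  have hp : IsPGroup 2 (Subgroup.zpowers x) := by
    refine IsPGroup.iff_orderOf.2 fun y => ?_
    obtain ⟨i, -, hi⟩ := (Nat.dvd_prime_pow Nat.prime_two).1
      (((orderOf_dvd_natCard y).trans (Nat.card_zpowers x).dvd).trans (orderOf_dvd_of_pow_eq_one hx))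
    exact ⟨i, hi⟩
  have hle : (T : Subgroup G) ≤ Subgroup.normalizer (Subgroup.zpowers x : Set G) := by
    intro g hg
    rw [Subgroup.mem_normalizer_iff]
    have key : ∀ g ∈ (T : Subgroup G), ∀ y ∈ Subgroup.zpowers x, g * y * g⁻¹ ∈ Subgroup.zpowers x := by
      intro g hg y hy
      obtain ⟨j, rfl⟩ := Subgroup.mem_zpowers_iff.1 hy
      rw [← _root_.conj_zpow]
      exact zpow_mem (hT g hg) _
    refine fun y => ⟨key g hg y, fun hy => ?_⟩
    have := key g⁻¹ (inv_mem hg) _ hy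
    rwa [show g⁻¹ * (g * y * g⁻¹) * g⁻¹⁻¹ = y by group] at this
  have h := T.is_maximal' (T.2.to_sup_of_normal_right' hp hle) le_sup_left
  exact h ▸ Subgroup.mem_sup_right (Subgroup.mem_zpowers x)

section

variable (hG : Ii G) (T : Sylow 2 G) {z : G} (hz : CentInv (T : Subgroup G) z) (hpref : Pref T z)
include hG hz hpref

theorem p_one {s : G} (hs : orderOf s = 2)
    (hle : Subgroup.centralizer ({z} : Set G) ≤ Subgroup.centralizer ({s} : Set G)) : CZ z s := by
  refine ⟨hs, ?_⟩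
  by_cases hodd : HasOdd z
  · obtain ⟨x, hx, hx1, hzx⟩ := hodd
    exact centralizer_eq hG hs hz.2.1 hx hx1 (Commute.symm (mem_C.1 (hle (mem_C.2 hzx.symm.eq)))) hzx
  · have hCT := centralizer_eq_sylow T hz hodd
    have hzs : z * s = s * z := mem_C.1 (hle (mem_C.2 rfl))
    have hsT : s ∈ (T : Subgroup G) := hCT ▸ mem_C.2 hzs.symm
    have hsc : CentInv (T : Subgroup G) s := ⟨hsT, hs, fun g hg => mem_C.1 (hle (hCT.symm ▸ hg))⟩
    rw [centralizer_eq_sylow T hsc (hpref hodd s hsc), hCT]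

section Multi

variable {z2 : G} (hz2 : CZ z z2) (hne : z2 ≠ z)
include hz2 hne

theorem three {w : G} (hw : orderOf w = 2) (hwC : w ∈ Subgroup.centralizer ({z} : Set G)) (hodd : HasOdd w) :
    CZ z w := by
  obtain ⟨x, hx, hx1, hwx⟩ := hodd
  refine ⟨hw, ?_⟩
  by_contra hne'
  have hwC2 : w ∈ Subgroup.centralizer ({z2} : Set G) := hz2.2.symm ▸ hwC
  have h1 := eq_or_inverts hG hz.2.1 hw (show Commute z w from (mem_C.1 hwC).symm) hx hwx fun h => hne' h.symm
  have h2 := eq_or_inverts hG hz2.1 hw (show Commute z2 w from (mem_C.1 hwC2).symm) hx hwx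
    fun h => hne' (h.symm.trans hz2.2)
  have hz2C : z2 ∈ Subgroup.centralizer ({z} : Set G) := hz2.2 ▸ mem_C.2 rfl
  have hzz : Commute z z2 := (mem_C.1 hz2C).symm
  have hpo : orderOf (z * z2) = 2 := by
    refine orderOf_eq_two ?_ fun h => hne ?_
    · rw [← pow_two, hzz.mul_pow, pow_two, pow_two, mul_self hz.2.1, mul_self hz2.1, one_mul]
    · rw [eq_inv_of_mul_eq_one_right h, inv_eq hz.2.1]
  have hp : CZ z (z * z2) := p_one hG T hz hpref hpo fun c hc =>
    mem_C.2 (Commute.mul_right (show Commute c z from mem_C.1 hc)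
      (show Commute c z2 from mem_C.1 (hz2.2.symm ▸ hc : c ∈ Subgroup.centralizer ({z2} : Set G)))).eq
  have hpx : Commute (z * z2) x := by
    refine mul_inv_eq_iff_eq_mul.1 ?_
    calc z * z2 * x * (z * z2)⁻¹ = z * (z2 * x * z2⁻¹) * z⁻¹ := by group
      _ = x := by rw [h2, ← conj_inv, h1, inv_inv]
  exact hne' ((centralizer_eq hG hw hpo hx hx1 hwx hpx).trans hp.2)

theorem conj_CZ {s c g : G} (hc : CZ z c) (hs : s = g * c * g⁻¹)
    (hsC : s ∈ Subgroup.centralizer ({z} : Set G)) : CZ z s := by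
  have hso : orderOf s = 2 := by rw [hs, orderOf_conj, hc.1]
  by_cases hodd : HasOdd z
  · obtain ⟨x, hx, hx1, hzx⟩ := hodd
    refine three hG T hz hpref hz2 hne hso hsC ⟨g * x * g⁻¹, by rwa [orderOf_conj],
      fun h => hx1 (conj_eq_one_iff.1 h), ?_⟩
    have hcx : Commute c x := (mem_C.1 (hc.2.symm ▸ mem_C.2 hzx.symm.eq : x ∈ Subgroup.centralizer ({c} : Set G))).symm
    rw [hs]
    show g * c * g⁻¹ * (g * x * g⁻¹) = g * x * g⁻¹ * (g * c * g⁻¹)
    rw [conj_mul, conj_mul, hcx.eq]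
  · have hCT := centralizer_eq_sylow T hz hodd
    by_cases hcent : ∀ h ∈ (T : Subgroup G), h * s = s * h
    · exact p_one hG T hz hpref hso fun h hh => mem_C.2 (hcent h (hCT ▸ hh))
    exfalso
    have hall : ∀ d, CZ z d → CentInv (T : Subgroup G) d := fun d hd => by
      have h1 : Subgroup.centralizer ({d} : Set G) = T := hd.2.trans hCT
      exact ⟨h1 ▸ mem_C.2 rfl, hd.1, fun h hh => mem_C.1 (h1.symm ▸ hh : h ∈ Subgroup.centralizer ({d} : Set G))⟩
    exact hne ((dihedral_of_fused hG T (fun d hd => centralizer_eq_sylow T hd (hpref hodd d hd))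
      (hall c hc) (hCT ▸ hsC) hs hcent).1 _ _ (hall z2 hz2) hz)

theorem two_le_C {Q : Subgroup G} (hQ : IsPGroup 2 Q) {c : G} (hcQ : c ∈ Q) (hc : CZ z c) :
    Q ≤ Subgroup.centralizer ({z} : Set G) := by
  haveI : Fact (Nat.Prime 2) := ⟨Nat.prime_two⟩
  set C := Subgroup.centralizer ({z} : Set G) with hC
  by_contra hle
  obtain ⟨g, hgQ, hgU, hgn⟩ := exists_normalizing (U := Q ⊓ C) hQ
    (lt_of_le_of_ne inf_le_left fun h => hle (inf_eq_left.1 h))
  have hcC : c ∈ C := by rw [hC, ← hc.2]; exact mem_C.2 rfl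
  have h1 := conj_CZ hG T hz hpref hz2 hne hc rfl (hgn c ⟨hcQ, hcC⟩).2
  have hnorm : g ∈ Subgroup.normalizer (C : Set G) := by
    rw [Subgroup.mem_normalizer_iff]
    intro x
    show x ∈ C ↔ g * x * g⁻¹ ∈ C
    conv_rhs => rw [hC, ← h1.2, centralizer_conj, show g⁻¹ * (g * x * g⁻¹) * g = x by group, hc.2, ← hC]
  apply hgU
  refine ⟨hgQ, ?_⟩
  set N := Subgroup.normalizer (C : Set G) with hN
  have hodd : ¬ 2 ∣ (C.subgroupOf N).index := by
    intro h
    apply T.not_dvd_index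
    have hTC : (T : Subgroup G) ≤ C := fun x hx => mem_C.2 (hz.2.2 x hx)
    have h2 : C.relIndex N ∣ C.index := Dvd.intro _ (Subgroup.relIndex_mul_index (Subgroup.le_normalizer))
    exact h.trans (h2.trans (Subgroup.index_dvd_of_le hTC))
  have h2 := Subgroup.pow_index_mem (C.subgroupOf N) ⟨g, hnorm⟩
  rw [Subgroup.mem_subgroupOf, SubmonoidClass.coe_pow] at h2
  obtain ⟨k, hk⟩ := hQ ⟨g, hgQ⟩
  have hk' : g ^ 2 ^ k = 1 := by simpa using congrArg (Subtype.val) hk
  have hcop : Nat.Coprime (orderOf g) (C.subgroupOf N).index :=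
    Nat.Coprime.coprime_dvd_left (orderOf_dvd_of_pow_eq_one hk')
      (Nat.Coprime.pow_left _ ((Nat.prime_two.coprime_iff_not_dvd).2 hodd))
  obtain ⟨m, hm⟩ := exists_pow_eq_self_of_coprime hcop.symm
  exact hm ▸ pow_mem h2 m

theorem invol_CZ [IsSimpleGroup G] (hns : ¬ Group.IsSolvable G) {w : G} (hw : orderOf w = 2)
    (hwC : w ∈ Subgroup.centralizer ({z} : Set G)) : CZ z w := by
  by_contra hwz
  set C := Subgroup.centralizer ({z} : Set G) with hC
  have hCle : ∀ v, orderOf v = 2 → v ∈ C → ¬ CZ z v → Subgroup.centralizer ({v} : Set G) ≤ C := by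
    intro v hv hvC hvz
    have hno : ¬ HasOdd v := fun h => hvz (three hG T hz hpref hz2 hne hv hvC h)
    refine two_le_C hG T hz hpref hz2 hne ?_ (mem_C.2 (mem_C.1 hvC).symm) ⟨hz.2.1, rfl⟩
    intro x
    obtain ⟨k, m, hm, hkm⟩ := Nat.exists_eq_two_pow_mul_odd (orderOf_pos (x : G)).ne'
    refine ⟨k, Subtype.ext ?_⟩
    simp only [SubmonoidClass.coe_pow, OneMemClass.coe_one]
    by_contra hne
    refine hno ⟨(x : G) ^ 2 ^ k, ?_, hne, (show Commute (x : G) v from mem_C.1 x.2).symm.pow_right _⟩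
    rw [orderOf_pow_of_dvd (by positivity) ⟨m, hkm⟩, hkm, Nat.mul_div_cancel_left _ (by positivity)]
    exact hm
  have hclass : ∀ g : G, g * w * g⁻¹ ∈ C := by
    intro g
    set j := g * w * g⁻¹ with hj
    have hjo : orderOf j = 2 := by rw [hj, orderOf_conj, hw]
    have hnc : ¬ IsConj z j := fun h => by
      obtain ⟨a, ha⟩ := isConj_iff.1 h
      exact hwz (conj_CZ hG T hz hpref hz2 hne (g := g⁻¹ * a) ⟨hz.2.1, rfl⟩
        (by rw [show g⁻¹ * a * z * (g⁻¹ * a)⁻¹ = g⁻¹ * (a * z * a⁻¹) * g by group, ha, hj]; group) hwC)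
    have hev := even_of_not_isConj hz.2.1 hjo hnc
    set v := (z * j) ^ (orderOf (z * j) / 2) with hv
    have hvo : orderOf v = 2 := half (even_iff_two_dvd.1 hev)
    have hvz : Commute v z := half_commute_left hz.2.1 hjo hev
    have hvj : Commute v j := half_commute_right hz.2.1 hjo hev
    have hvC : v ∈ C := mem_C.2 hvz.eq
    by_cases h : CZ z v
    · rw [hC, ← h.2]; exact mem_C.2 hvj.symm.eq
    · exact hCle v hvo hvC h (mem_C.2 hvj.symm.eq)
  have hle : Subgroup.normalClosure ({w} : Set G) ≤ C := by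
    rw [Subgroup.normalClosure, Subgroup.closure_le]
    intro y hy
    obtain ⟨a, ha, hya⟩ := Group.mem_conjugatesOfSet_iff.1 hy
    rw [Set.mem_singleton_iff] at ha
    subst ha
    obtain ⟨g, hg⟩ := isConj_iff.1 hya
    exact hg ▸ hclass g
  rcases (Subgroup.normalClosure_normal (s := ({w} : Set G))).eq_bot_or_eq_top with h | h
  · exact ne_one hw (Subgroup.mem_bot.1 (h ▸ Subgroup.subset_normalClosure rfl))
  · have hzc : z ∈ Subgroup.center G := Subgroup.mem_center_iff.2 fun g => mem_C.1 (hle (h ▸ Subgroup.mem_top g))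
    rcases (inferInstance : (Subgroup.center G).Normal).eq_bot_or_eq_top with h' | h'
    · exact ne_one hz.2.1 (Subgroup.mem_bot.1 (h' ▸ hzc))
    · exact hns (Group.isSolvable_of_comm fun a b => (Subgroup.mem_center_iff.1 (h' ▸ Subgroup.mem_top b) a))

end Multi

end

theorem class_two_pow {y w c : G} (h : w * y = c * y * w) (hy : Commute c y) (hw : Commute c w) (n : ℕ) :
    (y * w) ^ n = c ^ n.choose 2 * y ^ n * w ^ n := by
  have hstep : ∀ m : ℕ, w ^ m * y = c ^ m * y * w ^ m := by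
    intro m
    induction m with
    | zero => simp
    | succ m ih =>
      calc w ^ (m + 1) * y = w * (w ^ m * y) := by rw [pow_succ', mul_assoc]
        _ = (w * c ^ m) * y * w ^ m := by rw [ih]; group
        _ = c ^ m * (w * y) * w ^ m := by rw [(hw.pow_left m).symm.eq]; group
        _ = c ^ (m + 1) * y * w ^ (m + 1) := by rw [h, pow_succ, pow_succ' w]; group
  induction n with
  | zero => simp
  | succ n ih =>
    rw [pow_succ, ih, Nat.choose_succ_succ', Nat.choose_one_right, pow_add, pow_succ, pow_succ]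
    calc c ^ n.choose 2 * y ^ n * w ^ n * (y * w) = c ^ n.choose 2 * y ^ n * (w ^ n * y) * w := by group
      _ = c ^ n.choose 2 * (y ^ n * c ^ n) * y * w ^ n * w := by rw [hstep]; group
      _ = c ^ n.choose 2 * (c ^ n * y ^ n) * y * w ^ n * w := by rw [(hy.pow_pow n n).symm.eq]
      _ = _ := by rw [(Commute.pow_pow_self c n (n.choose 2)).eq]; group

/-- The quaternion pair in a noncommutative group all of whose cyclic subgroups are normal. -/
theorem dedekind_pair {C : Subgroup G} (hn : ∀ x ∈ C, ∀ c ∈ C, c * x * c⁻¹ ∈ Subgroup.zpowers x)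
    {a b : G} (haC : a ∈ C) (hbC : b ∈ C) (hab : a * b ≠ b * a) :
    ∃ x y : G, x ∈ C ∧ y ∈ C ∧ orderOf x = 4 ∧ x * y * x⁻¹ * y⁻¹ = x * x := by
  classical
  have hex : ∃ n, ∃ x ∈ C, ∃ y ∈ C, x * y ≠ y * x ∧ orderOf x + orderOf y = n := ⟨_, a, haC, b, hbC, hab, rfl⟩
  obtain ⟨x, hx, y, hy, hxy, hn0, hle⟩ : ∃ x ∈ C, ∃ y ∈ C, x * y ≠ y * x ∧
      orderOf x + orderOf y = Nat.find hex ∧ orderOf y ≤ orderOf x := by
    obtain ⟨x, hx, y, hy, hxy, hn0⟩ := Nat.find_spec hex
    rcases le_total (orderOf y) (orderOf x) with h | h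
    · exact ⟨x, hx, y, hy, hxy, hn0, h⟩
    · exact ⟨y, hy, x, hx, fun e => hxy e.symm, by omega, h⟩
  have hmin : ∀ x' ∈ C, ∀ y' ∈ C, orderOf x' + orderOf y' < orderOf x + orderOf y → x' * y' = y' * x' := by
    intro x' hx' y' hy' hlt
    by_contra h
    exact Nat.find_min hex (hn0 ▸ hlt) ⟨x', hx', y', hy', h, rfl⟩
  set k := x * y * x⁻¹ * y⁻¹ with hk
  have hky : k ∈ Subgroup.zpowers y := mul_mem (hn y hy x hx) (inv_mem (Subgroup.mem_zpowers y))
  have hkx : k ∈ Subgroup.zpowers x := by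
    rw [hk, show x * y * x⁻¹ * y⁻¹ = x * (y * x⁻¹ * y⁻¹) by group, ← conj_inv]
    exact mul_mem (Subgroup.mem_zpowers x) (inv_mem (hn x hx y hy))
  have hkyc : Commute k y := zpowers_comm hky (Subgroup.mem_zpowers y)
  have hkxc : Commute k x := zpowers_comm hkx (Subgroup.mem_zpowers x)
  have hxyk : x * y * x⁻¹ = k * y := by rw [hk]; group
  have hyxk : y * x * y⁻¹ = k⁻¹ * x := by rw [hk]; group
  have hk1 : k ≠ 1 := fun h => hxy (mul_inv_eq_iff_eq_mul.1 (mul_inv_eq_one.1 (hk ▸ h)))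
  have hlt : ∀ (w : G) (q : ℕ), q.Prime → q ∣ orderOf w → orderOf (w ^ q) < orderOf w := by
    intro w q hq hd
    rw [orderOf_pow_of_dvd hq.ne_zero hd]
    exact Nat.div_lt_self (orderOf_pos w) hq.one_lt
  have hqy : ∀ q : ℕ, q.Prime → q ∣ orderOf y → k ^ q = 1 := by
    intro q hq hd
    have h1 := hmin x hx (y ^ q) (pow_mem hy q) (Nat.add_lt_add_left (hlt y q hq hd) _)
    have h2 : (k * y) ^ q = y ^ q := by rw [← hxyk, _root_.conj_pow, h1, mul_inv_cancel_right]
    rwa [hkyc.mul_pow, mul_eq_right] at h2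
  have hqx : ∀ q : ℕ, q.Prime → q ∣ orderOf x → k ^ q = 1 := by
    intro q hq hd
    have h1 := hmin (x ^ q) (pow_mem hx q) y hy (Nat.add_lt_add_right (hlt x q hq hd) _)
    have h2 : (k⁻¹ * x) ^ q = x ^ q := by rw [← hyxk, _root_.conj_pow, ← h1, mul_inv_cancel_right]
    rwa [hkxc.inv_left.mul_pow, mul_eq_right, inv_pow, inv_eq_one] at h2
  have hy1 : orderOf y ≠ 1 := fun h => hxy (by rw [orderOf_eq_one_iff.1 h, mul_one, one_mul])
  have hp := Nat.minFac_prime hy1
  set p := (orderOf y).minFac with hpdef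
  haveI : Fact p.Prime := ⟨hp⟩
  have hok : orderOf k = p := orderOf_eq_prime (hqy p hp (Nat.minFac_dvd _)) hk1
  have hpow : ∀ w : G, (∀ q : ℕ, q.Prime → q ∣ orderOf w → k ^ q = 1) → ∃ e, orderOf w = p ^ e := by
    intro w hw
    refine ⟨_, Nat.eq_prime_pow_of_unique_prime_dvd (orderOf_pos w).ne' fun {q} hq hd => ?_⟩
    exact (((Nat.prime_dvd_prime_iff_eq hp hq).1 (hok ▸ orderOf_dvd_of_pow_eq_one (hw q hq hd)))).symm
  obtain ⟨ea, hea⟩ := hpow x hqx
  obtain ⟨eb, heb⟩ := hpow y hqy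
  have hba : eb ≤ ea := by
    rw [hea, heb] at hle
    exact (Nat.pow_le_pow_iff_right hp.one_lt).1 hle
  have hsub : ∀ (w : G) (e : ℕ), orderOf w = p ^ e → k ∈ Subgroup.zpowers w → 1 ≤ e ∧
      w ^ p ^ (e - 1) ∈ Subgroup.zpowers k := by
    intro w e hwe hkw
    have he : 1 ≤ e := by
      by_contra h
      rw [show e = 0 by omega, pow_zero, orderOf_eq_one_iff] at hwe
      rw [hwe, Subgroup.zpowers_one_eq_bot, Subgroup.mem_bot] at hkw
      exact hk1 hkw
    refine ⟨he, ?_⟩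
    obtain ⟨j, hj⟩ := Subgroup.mem_zpowers_iff.1 hkw
    have h1 : (orderOf w : ℤ) ∣ j * p := by
      rw [orderOf_dvd_iff_zpow_eq_one, zpow_mul, hj, zpow_natCast, ← hok, pow_orderOf_eq_one]
    rw [hwe, Nat.cast_pow, show e = e - 1 + 1 by omega, pow_succ] at h1
    obtain ⟨j', hj'⟩ := Int.dvd_of_mul_dvd_mul_right (Int.natCast_ne_zero.2 hp.ne_zero) h1
    set N := w ^ p ^ (e - 1) with hN
    have hNp : N ^ p = 1 := by
      rw [hN, ← pow_mul, ← pow_succ, show e - 1 + 1 = e by omega, ← hwe, pow_orderOf_eq_one]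
    have hkN : k = N ^ j' := by rw [← hj, hj', zpow_mul, ← Nat.cast_pow, zpow_natCast]
    have hN1 : N ≠ 1 := fun h => hk1 (by rw [hkN, h, one_zpow])
    have hNo : orderOf N = p := orderOf_eq_prime hNp hN1
    have heq : Subgroup.zpowers k = Subgroup.zpowers N := by
      refine Subgroup.eq_of_le_of_card_ge (Subgroup.zpowers_le.2 (hkN ▸ Subgroup.zpow_mem_zpowers N j')) ?_
      rw [Nat.card_zpowers, Nat.card_zpowers, hok, hNo]
    exact heq ▸ Subgroup.mem_zpowers N
  obtain ⟨-, hX⟩ := hsub x ea hea hkx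
  obtain ⟨hb1, hY⟩ := hsub y eb heb hky
  have hb2 : 2 ≤ eb := by
    by_contra h
    rw [show eb - 1 = 0 by omega, pow_zero, pow_one] at hY
    exact hxy (zpowers_comm (Subgroup.mem_zpowers x) (Subgroup.zpowers_le.2 hkx hY))
  -- express the element of order `p` of `<y>` by `x`
  have hXk : Subgroup.zpowers (x ^ p ^ (ea - 1)) = Subgroup.zpowers k := by
    refine Subgroup.eq_of_le_of_card_ge (Subgroup.zpowers_le.2 hX) ?_
    rw [Nat.card_zpowers, Nat.card_zpowers, hok, orderOf_pow_of_dvd (pow_ne_zero _ hp.ne_zero)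
      (hea ▸ pow_dvd_pow p (by omega)), hea, Nat.pow_div (by omega) hp.pos, show ea - (ea - 1) = 1 by omega, pow_one]
  obtain ⟨m', hm'⟩ := Subgroup.mem_zpowers_iff.1 (hXk.symm ▸ hY : y ^ p ^ (eb - 1) ∈ Subgroup.zpowers (x ^ p ^ (ea - 1)))
  set i : ℤ := -(m' * (p : ℤ) ^ (ea - eb)) with hi
  set N := p ^ (eb - 1) with hN
  have hy'C : y * x ^ i ∈ C := mul_mem hy (zpow_mem hx i)
  have hconj : ∀ j : ℤ, x ^ j * y = k ^ j * y * x ^ j := by
    intro j
    induction j using Int.induction_on with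
    | zero => simp
    | succ j ih =>
      calc x ^ ((j : ℤ) + 1) * y = x ^ (j : ℤ) * (x * y * x⁻¹) * x := by rw [zpow_add_one]; group
        _ = k * (x ^ (j : ℤ) * y) * x := by rw [hxyk, ← mul_assoc, (hkxc.symm.zpow_left _).eq]; group
        _ = k ^ ((j : ℤ) + 1) * y * x ^ ((j : ℤ) + 1) := by rw [ih, zpow_add_one, zpow_add_one, (Commute.self_zpow k _).symm.eq]; group
    | pred j ih =>
      have hinv : x⁻¹ * y * x = k⁻¹ * y := by
        have e : x⁻¹ * (k * y) * x = y := by rw [← hxyk]; group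
        calc x⁻¹ * y * x = x⁻¹ * (k⁻¹ * (k * y)) * x := by group
          _ = k⁻¹ * (x⁻¹ * (k * y) * x) := by rw [← mul_assoc x⁻¹ k⁻¹, (hkxc.inv_inv.symm).eq]; group
          _ = k⁻¹ * y := by rw [e]
      calc x ^ (-(j : ℤ) - 1) * y = x ^ (-(j : ℤ)) * (x⁻¹ * y * x) * x⁻¹ := by rw [zpow_sub_one]; group
        _ = k⁻¹ * (x ^ (-(j : ℤ)) * y) * x⁻¹ := by rw [hinv, ← mul_assoc, ((hkxc.symm.zpow_left _).inv_right).eq]; group
        _ = k ^ (-(j : ℤ) - 1) * y * x ^ (-(j : ℤ) - 1) := by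
          rw [ih, zpow_sub_one, zpow_sub_one, ((Commute.self_zpow k _).symm.inv_right).eq]; group
  have hform := class_two_pow (hconj i) (hkyc.zpow_left i) ((hkxc.zpow_left i).zpow_right i) N
  have hiN : y ^ N * (x ^ i) ^ N = 1 := by
    have e1 : (i * (N : ℤ)) = -((p : ℤ) ^ (ea - 1) * m') := by
      rw [hi, hN, Nat.cast_pow, neg_mul, mul_assoc, ← pow_add, show ea - eb + (eb - 1) = ea - 1 by omega, mul_comm]
    rw [← hm', ← zpow_natCast (x ^ i) N, ← zpow_mul, e1, zpow_neg, zpow_mul, ← Nat.cast_pow, zpow_natCast,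
      mul_inv_cancel]
  have hy'N : (k ^ i) ^ N.choose 2 ≠ 1 := by
    intro h
    rw [mul_assoc, hiN, mul_one, h] at hform
    have h2 : orderOf (y * x ^ i) < orderOf y := by
      refine lt_of_le_of_lt (orderOf_le_of_pow_eq_one (pow_pos hp.pos _) hform) ?_
      rw [heb]; exact Nat.pow_lt_pow_right hp.one_lt (by omega)
    have h3 := hmin x hx _ hy'C (Nat.add_lt_add_left h2 _)
    apply hxy
    rw [← mul_assoc, mul_assoc y (x ^ i) x, (Commute.self_zpow x i).symm.eq, ← mul_assoc] at h3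
    exact mul_right_cancel h3
  have hkp : k ^ p = 1 := hok ▸ pow_orderOf_eq_one k
  have hN2 : 2 = N := by
    by_contra h
    obtain ⟨d, hd⟩ := hp.dvd_choose_pow (n := eb - 1) two_ne_zero (hN ▸ h)
    apply hy'N
    have h1 : (k ^ i) ^ p = 1 := by
      rw [← zpow_natCast (k ^ i) p, ← zpow_mul, mul_comm, zpow_mul, zpow_natCast, hkp, one_zpow]
    rw [hN, hd, pow_mul, h1, one_pow]
  have hp2 : p = 2 := by
    have h : p ∣ 2 := hN2.symm ▸ dvd_pow_self p (by omega)
    exact (Nat.prime_dvd_prime_iff_eq hp Nat.prime_two).1 h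
  have heb2 : eb = 2 := by
    rw [hN, hp2] at hN2
    have : eb - 1 = 1 := Nat.pow_right_injective le_rfl (show 2 ^ (eb - 1) = 2 ^ 1 by rw [pow_one]; exact hN2.symm)
    omega
  have hea2 : ea = 2 := by
    by_contra h
    apply hy'N
    have : i = (p : ℤ) * (-(m' * (p : ℤ) ^ (ea - eb - 1))) := by
      have e : (p : ℤ) ^ (ea - eb) = (p : ℤ) ^ (ea - eb - 1) * p := by
        rw [← pow_succ, show ea - eb - 1 + 1 = ea - eb by omega]
      rw [hi, e]; ring
    rw [this, zpow_mul, zpow_natCast, hkp, one_zpow, one_pow]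
  have hx4 : orderOf x = 4 := by rw [hea, hea2, hp2]; norm_num
  refine ⟨x, y, hx, hy, hx4, ?_⟩
  refine invol_unique hkx (mul_mem (Subgroup.mem_zpowers x) (Subgroup.mem_zpowers x)) (hok.trans hp2) ?_
  rw [← pow_two, orderOf_pow_of_dvd two_ne_zero (by rw [hx4]; norm_num), hx4]

section

variable (hG : Ii G) (T : Sylow 2 G) {z : G} (hz : CentInv (T : Subgroup G) z) (hpref : Pref T z)
  {z2 : G} (hz2 : CZ z z2) (hne : z2 ≠ z)
include hG hz hpref hz2 hne

theorem C_comm [IsSimpleGroup G] (hns : ¬ Group.IsSolvable G) {a b : G}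
    (ha : a ∈ Subgroup.centralizer ({z} : Set G)) (hb : b ∈ Subgroup.centralizer ({z} : Set G)) :
    a * b = b * a := by
  by_contra hab
  set C := Subgroup.centralizer ({z} : Set G) with hC
  have hinv : ∀ w, orderOf w = 2 → w ∈ C → CZ z w := fun w hw hwC => invol_CZ hG T hz hpref hz2 hne hns hw hwC
  have hn : ∀ x ∈ C, ∀ c ∈ C, c * x * c⁻¹ ∈ Subgroup.zpowers x := by
    intro x hx c hc
    rcases Nat.even_or_odd (orderOf x) with he | ho
    · have ht := half (even_iff_two_dvd.1 he)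
      refine conj_mem_root hG ht (Subgroup.npow_mem_zpowers x _) ?_
      rw [(hinv _ ht (pow_mem hx _)).2]
      exact hc
    · rcases eq_or_ne x 1 with rfl | hx1
      · simp
      · exact conj_mem_odd hG hz.2.1 ho hx1 (mem_C.1 hx).symm hc
  obtain ⟨x, y, hx, hy, hx4, hcomm⟩ := dedekind_pair hn ha hb hab
  have hTC : (T : Subgroup G) ≤ C := fun g hg => mem_C.2 (hz.2.2 g hg)
  have hxT : x ∈ (T : Subgroup G) :=
    mem_sylow_of_normalized T (k := 2) (by rw [show (2 : ℕ) ^ 2 = 4 by norm_num, ← hx4, pow_orderOf_eq_one])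
      fun g hg => hn x hx g (hTC hg)
  set k := x * x with hk
  have hko : orderOf k = 2 := by
    rw [hk, ← pow_two, orderOf_pow_of_dvd two_ne_zero (by rw [hx4]; norm_num), hx4]
  have hkC : k ∈ C := mul_mem hx hx
  have hkx : k ∈ Subgroup.zpowers x := mul_mem (Subgroup.mem_zpowers x) (Subgroup.mem_zpowers x)
  have hyx : y * x * y⁻¹ = x⁻¹ := by
    have h1 : x⁻¹ * (x * y * x⁻¹ * y⁻¹) = x := by rw [hcomm, inv_mul_cancel_left]
    calc y * x * y⁻¹ = (x⁻¹ * (x * y * x⁻¹ * y⁻¹))⁻¹ := by group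
      _ = x⁻¹ := by rw [h1]
  have hxi : x⁻¹ = k * x := by
    apply inv_eq_of_mul_eq_one_right
    rw [← mul_assoc, hk, ← mul_assoc, show x * x * x * x = x ^ orderOf x by rw [hx4, pow_succ, pow_succ, pow_succ, pow_one], pow_orderOf_eq_one]
  -- `k` is the only involution that is a square in `C`
  have hsq : ∀ v ∈ C, orderOf (v * v) = 2 → v * v = k := by
    intro v hv hvo
    by_contra hvk
    have hvT : v ∈ (T : Subgroup G) := by
      refine mem_sylow_of_normalized T (k := 2) ?_ fun g hg => hn v hv g (hTC hg)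
      rw [show (2 : ℕ) ^ 2 = 2 * 2 by norm_num, pow_mul, pow_two, pow_two, mul_self hvo]
    have hvv : v * v ∈ Subgroup.zpowers v := mul_mem (Subgroup.mem_zpowers v) (Subgroup.mem_zpowers v)
    have hxv : Commute x v := by
      refine mul_inv_eq_iff_eq_mul.1 (mul_inv_eq_one.1 (meet_eq_one T.2 hko hvo hkx hvv (Ne.symm hvk)
        (mul_mem (mul_mem (mul_mem hxT hvT) (inv_mem hxT)) (inv_mem hvT)) ?_
        (mul_mem (hn v hv x hx) (inv_mem (Subgroup.mem_zpowers v)))))
      rw [show x * v * x⁻¹ * v⁻¹ = x * (v * x * v⁻¹)⁻¹ by group]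
      exact mul_mem (Subgroup.mem_zpowers x) (inv_mem (hn x hx v hv))
    have hyv : Commute y v := by
      have hyk : k ∈ Subgroup.zpowers y := by
        rw [← hcomm]; exact mul_mem (hn y hy x hx) (inv_mem (Subgroup.mem_zpowers y))
      have hd1 : y * v * y⁻¹ * v⁻¹ ∈ Subgroup.zpowers v := mul_mem (hn v hv y hy) (inv_mem (Subgroup.mem_zpowers v))
      refine mul_inv_eq_iff_eq_mul.1 (mul_inv_eq_one.1 (meet_eq_one T.2 hko hvo hyk hvv (Ne.symm hvk)
        ((Subgroup.zpowers_le.2 hvT) hd1) ?_ hd1))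
      rw [show y * v * y⁻¹ * v⁻¹ = y * (v * y * v⁻¹)⁻¹ by group]
      exact mul_mem (Subgroup.mem_zpowers y) (inv_mem (hn y hy v hv))
    have hw2 : x * v * (x * v) = k * (v * v) := by
      rw [← pow_two, hxv.mul_pow, pow_two, pow_two]
    have hne2 : k * (v * v) ≠ 1 := fun h => hvk (by rw [eq_inv_of_mul_eq_one_right h, inv_eq hko])
    have hw'2 : x⁻¹ * v * (x⁻¹ * v) = k * (v * v) := by
      rw [← pow_two, hxv.inv_left.mul_pow, pow_two, pow_two, hk, ← mul_inv_rev,
        inv_eq_of_mul_eq_one_right (mul_self hko)]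
    obtain ⟨j, hj⟩ := Subgroup.mem_zpowers_iff.1 (hn (x * v) (mul_mem hx hv) y hy)
    rw [← conj_mul, hyx, (mul_inv_eq_iff_eq_mul.2 hyv.eq)] at hj
    have hkk : k * (v * v) * (k * (v * v)) = 1 := by
      have hc : Commute k (v * v) := ((hxv.mul_left hxv).mul_right (hxv.mul_left hxv))
      rw [← pow_two, hc.mul_pow, pow_two, pow_two, mul_self hko, mul_self hvo, one_mul]
    rcases Int.even_or_odd j with ⟨l, rfl⟩ | ⟨l, rfl⟩
    · rw [zpow_add, ← (Commute.refl (x * v)).mul_zpow, hw2] at hj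
      apply hne2
      rw [← hw'2, ← hj, ← (Commute.refl (k * (v * v))).mul_zpow, hkk, one_zpow]
    · rw [zpow_add_one, zpow_mul, zpow_two, hw2] at hj
      rcases Int.even_or_odd l with ⟨l', rfl⟩ | ⟨l', rfl⟩
      · rw [zpow_add, ← (Commute.refl (k * (v * v))).mul_zpow, hkk, one_zpow, one_mul, mul_left_inj] at hj
        exact ne_one hko (by rw [hk]; nth_rw 1 [hj]; rw [inv_mul_cancel])
      · rw [zpow_add_one, zpow_mul, zpow_two, hkk, one_zpow, one_mul, ← mul_assoc, mul_left_inj, hxi,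
          mul_left_inj, mul_eq_left] at hj
        exact ne_one hvo hj
  -- `k` is isolated in `T`
  have hkT : k ∈ (T : Subgroup G) := mul_mem hxT hxT
  have hcent : ∀ w, orderOf w = 2 → w ∈ C → w ∈ Subgroup.centralizer ((T : Subgroup G) : Set G) :=
    fun w hw hwC => Subgroup.mem_centralizer_iff.2 fun g hg => mem_C.1 ((hinv w hw hwC).2.symm ▸ hTC hg)
  have hiso : ∀ g : G, g * k * g⁻¹ ∈ (T : Subgroup G) → g * k * g⁻¹ = k := by
    haveI : Fact (Nat.Prime 2) := ⟨Nat.prime_two⟩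
    intro g hg
    have ho : orderOf (g * k * g⁻¹) = 2 := by rw [orderOf_conj, hko]
    obtain ⟨n, hn', he⟩ := CfsgLib.Fusion.Transfer.burnside_central T (hcent k hko hkC)
      (hcent _ ho (hTC hg)) ⟨g, rfl⟩
    rw [← he]
    have hnx : n * x * n⁻¹ ∈ (T : Subgroup G) := (Subgroup.mem_normalizer_iff.1 hn' x).1 hxT
    have e : n * k * n⁻¹ = n * x * n⁻¹ * (n * x * n⁻¹) := by rw [hk]; group
    rw [e]
    exact hsq _ (hTC hnx) (by rw [← e, orderOf_conj, hko])
  obtain ⟨N, hNn, hNo, hNk⟩ := CfsgLib.Involution.ZStar.exists_odd_normal_of_sylow T hko hkT hiso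
  rcases hNn.eq_bot_or_eq_top with h | h
  · have hkc : k ∈ Subgroup.center G := Subgroup.mem_center_iff.2 fun g => by
      have h1 := hNk g
      rw [h, Subgroup.mem_bot] at h1
      exact (mul_inv_eq_iff_eq_mul.1 (mul_inv_eq_one.1 h1)).symm
    rcases (inferInstance : (Subgroup.center G).Normal).eq_bot_or_eq_top with h' | h'
    · exact ne_one hko (Subgroup.mem_bot.1 (h' ▸ hkc))
    · exact hns (Group.isSolvable_of_comm fun a b => (Subgroup.mem_center_iff.1 (h' ▸ Subgroup.mem_top b) a))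
  · exact hns (CfsgLib.OddOrder.Final.oddSolvable G (by rwa [h, Subgroup.card_top] at hNo))

end

theorem three_lt_card [IsSimpleGroup G] (hns : ¬ Group.IsSolvable G) {F : Type} [Field F] [Fintype F]
    (e : G ≃* Matrix.ProjectiveSpecialLinearGroup (Fin 2) F) : 3 < Fintype.card F := by
  by_contra h
  have h2 := Fintype.one_lt_card (α := F)
  have hnc : ¬ IsMulCommutative G := fun hc => hns (Group.isSolvable_of_comm fun a b => hc.is_comm.comm a b)
  have hcard := CfsgLib.Char.FewSylow.card_psl_two (F := F)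
  rw [← Nat.card_congr e.toEquiv] at hcard
  have hc : Fintype.card F = 2 ∨ Fintype.card F = 3 := by omega
  rcases hc with hc | hc
  · rw [hc] at hcard
    exact CfsgLib.SmallGroups.NineTwoPrimes.not_two_primes hnc (a := 1) (b := 1) Nat.prime_two Nat.prime_three
      (by norm_num at hcard ⊢; omega)
  · rw [hc] at hcard
    exact CfsgLib.SmallGroups.NineTwoPrimes.not_two_primes hnc (a := 2) (b := 1) Nat.prime_two Nat.prime_three
      (by norm_num at hcard ⊢; omega)

section

variable (hG : Ii G) (T : Sylow 2 G) {z : G} (hz : CentInv (T : Subgroup G) z) (hpref : Pref T z)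
include hG hz hpref

theorem multi_result [IsSimpleGroup G] (hns : ¬ Group.IsSolvable G) {z2 : G} (hz2 : CZ z z2) (hne : z2 ≠ z) :
    ∃ (F : Type) (_ : Field F) (_ : Fintype F),
      Nonempty (G ≃* Matrix.ProjectiveSpecialLinearGroup (Fin 2) F) := by
  haveI : Fact (Nat.Prime 2) := ⟨Nat.prime_two⟩
  have hTC : (T : Subgroup G) ≤ Subgroup.centralizer ({z} : Set G) := fun g hg => mem_C.2 (hz.2.2 g hg)
  have hac : CfsgLib.Recognition.AbelianCentraliser.AC G := by
    intro t ht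
    obtain ⟨g, hg⟩ := exists_conj_invol T ht
    have h1 := invol_CZ hG T hz hpref hz2 hne hns (w := g * t * g⁻¹) (by rw [orderOf_conj, ht]) (hTC hg)
    refine ⟨⟨fun a b => Subtype.ext ?_⟩⟩
    have key : ∀ c ∈ Subgroup.centralizer ({t} : Set G), g * c * g⁻¹ ∈ Subgroup.centralizer ({z} : Set G) := by
      intro c hc
      rw [← h1.2, centralizer_conj, show g⁻¹ * (g * c * g⁻¹) * g = c by group]
      exact hc
    have := C_comm hG T hz hpref hz2 hne hns (key a a.2) (key b b.2)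
    rw [conj_mul, conj_mul] at this
    exact mul_left_cancel (mul_right_cancel this)
  have hz2T : z2 ∈ (T : Subgroup G) := by
    refine mem_sylow_of_normalized T (k := 1) (by rw [pow_one, pow_two, mul_self hz2.1]) fun g hg => ?_
    rw [mem_C_conj.1 (hz2.2.symm ▸ hTC hg : g ∈ Subgroup.centralizer ({z2} : Set G))]
    exact Subgroup.mem_zpowers z2
  have hcyc : ¬ IsCyclic (T : Subgroup G) := fun h =>
    hne (CfsgLib.Characterizations.BSW.cyclic_invol_unique h hz2T hz.1 hz2.1 hz.2.1)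
  have hnn : ¬ (T : Subgroup G).Normal := by
    intro h
    rcases h.eq_bot_or_eq_top with h' | h'
    · exact ne_one hz.2.1 (Subgroup.mem_bot.1 (h' ▸ hz.1))
    · haveI : Group.IsNilpotent G := by
        have hp : IsPGroup 2 (⊤ : Subgroup G) := h' ▸ T.2
        exact Group.isNilpotent_top.1 hp.isNilpotent
      exact hns IsNilpotent.to_isSolvable
  obtain ⟨F, hF, hFi, A, hA, hAf, hchar, -, ⟨e⟩⟩ :=
    CfsgLib.Recognition.AbelianCentraliser.structure_of_noncyclic hac T hcyc hnn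
  have hAs : Subsingleton A := by
    set f : G →* A := (MonoidHom.snd (Matrix.SpecialLinearGroup (Fin 2) F) A).comp e.toMonoidHom with hf
    rcases (inferInstance : f.ker.Normal).eq_bot_or_eq_top with h | h
    · exact absurd (Group.isSolvable_of_comm fun a b =>
        ((MonoidHom.ker_eq_bot_iff f).1 h) (by rw [map_mul, map_mul, mul_comm])) hns
    · refine ⟨fun a b => ?_⟩
      have key : ∀ a : A, a = 1 := fun a => by
        have h1 : f (e.symm (1, a)) = 1 := MonoidHom.mem_ker.1 (h ▸ Subgroup.mem_top _)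
        simpa [hf] using h1
      rw [key a, key b]
  obtain ⟨e2⟩ := CfsgLib.Perm.SharpThreeOdd.psl_equiv_sl (F := F)
  haveI := hAs
  have hbij : Function.Bijective ((MonoidHom.fst (Matrix.SpecialLinearGroup (Fin 2) F) A).comp e.toMonoidHom) :=
    ⟨fun a b h => e.injective (Prod.ext h (Subsingleton.elim _ _)), fun x => ⟨e.symm (x, 1), by simp⟩⟩
  exact ⟨F, hF, hFi, ⟨(MulEquiv.ofBijective _ hbij).trans e2.symm⟩⟩

theorem single_result [IsSimpleGroup G] (hns : ¬ Group.IsSolvable G) (hone : ∀ s, CZ z s → s = z) :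
    ∃ (F : Type) (_ : Field F) (_ : Fintype F),
      Nonempty (G ≃* Matrix.ProjectiveSpecialLinearGroup (Fin 2) F) := by
  haveI : Fact (Nat.Prime 2) := ⟨Nat.prime_two⟩
  set C := Subgroup.centralizer ({z} : Set G) with hC
  have hTC : (T : Subgroup G) ≤ C := fun g hg => mem_C.2 (hz.2.2 g hg)
  obtain ⟨g0, hg0T, hg0⟩ : ∃ g : G, g * z * g⁻¹ ∈ (T : Subgroup G) ∧ g * z * g⁻¹ ≠ z := by
    by_contra h
    push Not at h
    obtain ⟨N, hNn, hNo, hNk⟩ := CfsgLib.Involution.ZStar.exists_odd_normal_of_sylow T hz.2.1 hz.1 h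
    rcases hNn.eq_bot_or_eq_top with h1 | h1
    · have hzc : z ∈ Subgroup.center G := Subgroup.mem_center_iff.2 fun g => by
        have h2 := hNk g
        rw [h1, Subgroup.mem_bot] at h2
        exact (mul_inv_eq_iff_eq_mul.1 (mul_inv_eq_one.1 h2)).symm
      rcases (inferInstance : (Subgroup.center G).Normal).eq_bot_or_eq_top with h' | h'
      · exact ne_one hz.2.1 (Subgroup.mem_bot.1 (h' ▸ hzc))
      · exact hns (Group.isSolvable_of_comm fun a b => (Subgroup.mem_center_iff.1 (h' ▸ Subgroup.mem_top b) a))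
    · exact hns (CfsgLib.OddOrder.Final.oddSolvable G (by rwa [h1, Subgroup.card_top] at hNo))
  set s := g0 * z * g0⁻¹ with hs
  have hso : orderOf s = 2 := by rw [hs, orderOf_conj, hz.2.1]
  set O := (Cfsg.oddCore C).map C.subtype with hO
  have hOmem : ∀ y ∈ O, y ∈ C ∧ Odd (orderOf y) := by
    rintro _ ⟨y, hy, rfl⟩
    refine ⟨y.2, ?_⟩
    rw [Subgroup.subtype_apply, Subgroup.orderOf_coe]
    exact CfsgLib.Involution.ZStar.odd_orderOf_of_mem hy
  have finish : (∃ n, 2 ≤ n ∧ Nonempty ((T : Subgroup G) ≃* DihedralGroup n)) →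
      (O ≠ ⊥ → IsCyclic ((T : Subgroup G) ⊓ Subgroup.centralizer (O : Set G) : Subgroup G) ∧
        ((T : Subgroup G) ⊓ Subgroup.centralizer (O : Set G)).relIndex (T : Subgroup G) = 2) →
      (∀ g ∈ (T : Subgroup G), g ∉ Subgroup.centralizer (O : Set G) → ∀ y ∈ O, g * y * g⁻¹ = y⁻¹) →
      ∃ (F : Type) (_ : Field F) (_ : Fintype F),
        Nonempty (G ≃* Matrix.ProjectiveSpecialLinearGroup (Fin 2) F) := by
    rintro ⟨n, hn, hdih⟩ ha hb
    obtain ⟨F, hF, hFi, -, he⟩ := CfsgLib.Characterizations.BSW.psl_of_dihedral T n hn hdih z hz.2.1 hz.1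
      hz.2.2 O hO ha hb (fun Y hY hY1 g hg => by
        obtain ⟨y, hy, hy1⟩ : ∃ y ∈ Y, y ≠ 1 := by
          by_contra h
          push Not at h
          exact hY1 ((Subgroup.eq_bot_iff_forall Y).2 h)
        obtain ⟨hyC, hyo⟩ := hOmem y (hY hy)
        obtain ⟨hyC', hyo'⟩ := hOmem _ (hY ((Subgroup.mem_normalizer_iff.1 hg y).1 hy))
        have hzy : Commute z y := (mem_C.1 hyC).symm
        have hzy' : Commute z (g * y * g⁻¹) := (mem_C.1 hyC').symm
        have hzy'' : Commute (g * z * g⁻¹) (g * y * g⁻¹) := by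
          show g * z * g⁻¹ * (g * y * g⁻¹) = g * y * g⁻¹ * (g * z * g⁻¹)
          rw [conj_mul, conj_mul, hzy.eq]
        have h1 : CZ z (g * z * g⁻¹) := ⟨by rw [orderOf_conj, hz.2.1],
          centralizer_eq hG (by rw [orderOf_conj, hz.2.1]) hz.2.1 hyo' (fun h => hy1 (conj_eq_one_iff.1 h)) hzy'' hzy'⟩
        exact mem_C_conj.2 (hone _ h1))
    exact ⟨F, hF, hFi, he⟩
  by_cases hodd : HasOdd z
  swap
  · have hCT : C = T := centralizer_eq_sylow T hz hodd
    have hnc : ¬ ∀ g ∈ (T : Subgroup G), g * s = s * g := fun h => hg0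
      (hone s (p_one hG T hz hpref hso fun g hg => mem_C.2 (h g (hCT ▸ hg))))
    have hdih := (dihedral_of_fused hG T (fun d hd => centralizer_eq_sylow T hd (hpref hodd d hd))
      hz hg0T hs hnc).2
    have hObot : O = ⊥ := by
      rw [Subgroup.eq_bot_iff_forall]
      intro y hy
      obtain ⟨hyC, hyo⟩ := hOmem y hy
      by_contra hy1
      exact hodd ⟨y, hyo, hy1, (mem_C.1 hyC).symm⟩
    refine finish hdih (fun h => absurd hObot h) fun g _ hg => absurd (Subgroup.mem_centralizer_iff.2 ?_) hg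
    intro y hy
    rw [hObot] at hy
    rw [Subgroup.mem_bot.1 hy, one_mul, mul_one]
  obtain ⟨x0, hx0, hx01, hzx0⟩ := hodd
  have hx0C : x0 ∈ C := mem_C.2 hzx0.symm.eq
  set R := (T : Subgroup G) ⊓ Subgroup.centralizer {x | x ∈ C ∧ Odd (orderOf x)} with hR
  have memR : ∀ {r}, r ∈ R ↔ r ∈ (T : Subgroup G) ∧ ∀ x ∈ C, Odd (orderOf x) → x * r = r * x := by
    intro r
    rw [hR, Subgroup.mem_inf, Subgroup.mem_centralizer_iff]
    exact ⟨fun h => ⟨h.1, fun x hx ho => h.2 x ⟨hx, ho⟩⟩, fun h => ⟨h.1, fun x hx => h.2 x hx.1 hx.2⟩⟩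
  have hzR : z ∈ R := memR.2 ⟨hz.1, fun x hx _ => mem_C.1 hx⟩
  -- involutions of `T` other than `z` invert
  have hinv : ∀ w ∈ (T : Subgroup G), orderOf w = 2 → w ≠ z → ∀ x ∈ C, Odd (orderOf x) → w * x * w⁻¹ = x⁻¹ := by
    intro w hw hwo hwz x hx ho
    exact eq_or_inverts hG hwo hz.2.1 (hz.2.2 w hw) ho (mem_C.1 hx).symm fun h => hwz (hone w ⟨hwo, h⟩)
  have odd_self : ∀ x : G, Odd (orderOf x) → x⁻¹ = x → x = 1 := by
    intro x ho h
    by_contra h1
    have h2 : orderOf x = 2 := orderOf_eq_two (inv_eq_iff_mul_eq_one.1 h) h1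
    rw [h2] at ho
    exact absurd ho (by decide)
  have hnotR : ∀ w ∈ (T : Subgroup G), orderOf w = 2 → w ≠ z → w ∉ R := by
    intro w hw hwo hwz hwR
    have h1 := hinv w hw hwo hwz x0 hx0C hx0
    rw [← (memR.1 hwR).2 x0 hx0C hx0, mul_inv_cancel_right] at h1
    exact hx01 (odd_self x0 hx0 h1.symm)
  have huR : ∀ w ∈ R, orderOf w = 2 → w = z := fun w hw hwo => by
    by_contra h; exact hnotR w hw.1 hwo h hw
  have hroot : ∀ u ∈ (T : Subgroup G), z ∈ Subgroup.zpowers u → u ∈ R := by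
    intro u hu hzu
    refine memR.2 ⟨hu, fun x hx ho => ?_⟩
    rcases eq_or_ne x 1 with rfl | hx1
    · simp
    have hn1 : u * x * u⁻¹ ∈ Subgroup.zpowers x := conj_mem_odd hG hz.2.1 ho hx1 (mem_C.1 hx).symm (hTC hu)
    have hn2 : x * u * x⁻¹ ∈ Subgroup.zpowers u := conj_mem_root hG hz.2.1 hzu hx
    have hc1 : x * u * x⁻¹ * u⁻¹ ∈ Subgroup.zpowers u := mul_mem hn2 (inv_mem (Subgroup.mem_zpowers u))
    have hc2 : x * u * x⁻¹ * u⁻¹ ∈ Subgroup.zpowers x := by
      rw [show x * u * x⁻¹ * u⁻¹ = x * (u * x * u⁻¹)⁻¹ by group]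
      exact mul_mem (Subgroup.mem_zpowers x) (inv_mem hn1)
    by_contra hne
    have h2 := two_dvd_of_ne_one T.2 (Subgroup.zpowers_le.2 hu hc1)
      (fun h => hne (mul_inv_eq_iff_eq_mul.1 (mul_inv_eq_one.1 h)))
    exact (Nat.not_even_iff_odd.2 ho) (even_iff_two_dvd.2 (h2.trans (orderOf_dvd_of_mem_zpowers hc2)))
  have hRn : ∀ u ∈ (T : Subgroup G), ∀ r ∈ R, u * r * u⁻¹ ∈ R := by
    intro u hu r hr
    refine memR.2 ⟨mul_mem (mul_mem hu (memR.1 hr).1) (inv_mem hu), fun x hx ho => ?_⟩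
    have hx' : u⁻¹ * x * u ∈ C := mul_mem (mul_mem (inv_mem (hTC hu)) hx) (hTC hu)
    have ho' : Odd (orderOf (u⁻¹ * x * u)) := by
      have := orderOf_conj u⁻¹ x
      rw [inv_inv] at this
      rwa [this]
    have h1 := (memR.1 hr).2 _ hx' ho'
    calc x * (u * r * u⁻¹) = u * (u⁻¹ * x * u * r) * u⁻¹ := by group
      _ = u * r * u⁻¹ * x := by rw [h1]; group
  have hRinv : ∀ w ∈ (T : Subgroup G), orderOf w = 2 → w ≠ z → ∀ r ∈ R, w * r * (w * r) = 1 := by
    intro w hw hwo hwz r hr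
    by_contra hne
    have hqT : w * r ∈ (T : Subgroup G) := mul_mem hw hr.1
    obtain ⟨i, hi⟩ := four_le T.2 hqT hne
    have hqR : w * r ∉ R := fun h => hnotR w hw hwo hwz (by simpa using mul_mem h (inv_mem hr))
    have hqqR : w * r * (w * r) ∈ R := by
      refine memR.2 ⟨mul_mem hqT hqT, fun x hx ho => ?_⟩
      have h1 : ∀ y ∈ C, Odd (orderOf y) → w * r * y * (w * r)⁻¹ = y⁻¹ := fun y hy hyo => by
        calc w * r * y * (w * r)⁻¹ = w * (r * y * r⁻¹) * w⁻¹ := by group
          _ = y⁻¹ := by rw [← (memR.1 hr).2 y hy hyo, mul_inv_cancel_right, hinv w hw hwo hwz y hy hyo]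
      have h2 : w * r * (w * r) * x * (w * r * (w * r))⁻¹ = x := by
        calc _ = w * r * (w * r * x * (w * r)⁻¹) * (w * r)⁻¹ := by group
          _ = x := by rw [h1 x hx ho, h1 x⁻¹ (inv_mem hx) (by rwa [orderOf_inv]), inv_inv]
      exact (mul_inv_eq_iff_eq_mul.1 h2).symm
    set v := (w * r) ^ (orderOf (w * r) / 2) with hv
    have hvo : orderOf v = 2 := half ⟨2 * i, by omega⟩
    have hvR : v ∈ R := by
      rw [hv, show orderOf (w * r) / 2 = 2 * i by omega, pow_mul, pow_two]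
      exact pow_mem hqqR i
    exact hqR (hroot _ hqT (huR v hvR hvo ▸ Subgroup.npow_mem_zpowers _ _))
  have hss : s * s = 1 := mul_self hso
  have hsi : s⁻¹ = s := inv_eq hso
  have hsR : s ∉ R := hnotR s hg0T hso hg0
  have hsinv : ∀ r ∈ R, s * r * s⁻¹ = r⁻¹ := fun r hr => by
    rw [hsi]
    exact eq_inv_of_mul_eq_one_left (by rw [mul_assoc (s * r)]; exact hRinv s hg0T hso hg0 r hr)
  have hRcomm : ∀ a ∈ R, ∀ b ∈ R, a * b = b * a := by
    intro a ha b hb
    have h1 := hsinv _ (mul_mem ha hb)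
    rw [← conj_mul, hsinv a ha, hsinv b hb] at h1
    simpa using congrArg (·⁻¹) h1.symm
  obtain ⟨⟨a, haR⟩, hgen⟩ := (CfsgLib.Recognition.AbelianCentraliser.isCyclic_of_one_involution
    (P := R) (T.2.to_le inf_le_left) (fun a b => Subtype.ext (hRcomm a a.2 b b.2)) (fun a b ha hb => Subtype.ext
      ((huR a a.2 (by rwa [Subgroup.orderOf_coe])).trans (huR b b.2 (by rwa [Subgroup.orderOf_coe])).symm))).exists_generator
  have hRa : R = Subgroup.zpowers a := by
    refine le_antisymm (fun x hx => ?_) (Subgroup.zpowers_le.2 haR)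
    obtain ⟨k, hk⟩ := Subgroup.mem_zpowers_iff.1 (hgen ⟨x, hx⟩)
    exact Subgroup.mem_zpowers_iff.2 ⟨k, by simpa using congrArg Subtype.val hk⟩
  have hinvol : ∀ w ∈ (T : Subgroup G), orderOf w = 2 → w ≠ z → s * w ∈ R := by
    intro w hw hwo hwz
    refine memR.2 ⟨mul_mem hg0T hw, fun x hx ho => ?_⟩
    have h2 : s * w * x * (s * w)⁻¹ = x := by
      calc _ = s * (w * x * w⁻¹) * s⁻¹ := by group
        _ = x := by rw [hinv w hw hwo hwz x hx ho, hinv s hg0T hso hg0 x⁻¹ (inv_mem hx) (by rwa [orderOf_inv]), inv_inv]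
    exact (mul_inv_eq_iff_eq_mul.1 h2).symm
  let H : Subgroup G :=
    { carrier := {u | u ∈ R ∨ s * u ∈ R}
      one_mem' := Or.inl (one_mem R)
      mul_mem' := by
        rintro p q (hp | hp) (hq | hq)
        · exact Or.inl (mul_mem hp hq)
        · refine Or.inr ?_
          rw [show s * (p * q) = s * p * s⁻¹ * (s * q) by group]
          exact mul_mem (hRn s hg0T p hp) hq
        · refine Or.inr ?_
          rw [← mul_assoc]; exact mul_mem hp hq
        · refine Or.inl ?_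
          have e : p * q = s * (s * p) * s⁻¹ * (s * q) := by
            calc p * q = (s * s) * p * q := by rw [hss, one_mul]
              _ = _ := by group
          rw [e]
          exact mul_mem (hRn s hg0T _ hp) hq
      inv_mem' := by
        rintro p (hp | hp)
        · exact Or.inl (inv_mem hp)
        · refine Or.inr ?_
          show s * p⁻¹ ∈ R
          have e : s * p⁻¹ = s * (s * p)⁻¹ * s⁻¹ := by
            rw [mul_inv_rev, hsi]
            calc s * p⁻¹ = s * p⁻¹ * (s * s) := by rw [hss, mul_one]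
              _ = _ := by group
          rw [e]
          exact hRn s hg0T _ (inv_mem hp) }
  have hmemH : ∀ {u}, u ∈ H ↔ u ∈ R ∨ s * u ∈ R := Iff.rfl
  have hcover : ∀ u ∈ (T : Subgroup G), u ∈ R ∨ s * u ∈ R := by
    by_contra hbad
    push Not at hbad
    obtain ⟨u0, hu0, hu0R, hu0s⟩ := hbad
    have hHT : H ≤ (T : Subgroup G) := by
      intro u hu
      rcases hmemH.1 hu with h | h
      · exact h.1
      · have := mul_mem (inv_mem hg0T) (h.1 : s * u ∈ (T : Subgroup G))
        rwa [inv_mul_cancel_left] at this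
    obtain ⟨v, hvT, hvH, hvv, -⟩ := exists_step T.2 (lt_of_le_of_ne hHT
      fun h => (hmemH.1 (h.symm ▸ hu0 : u0 ∈ H)).elim hu0R hu0s)
    have hinvH : ∀ u ∈ (T : Subgroup G), orderOf u = 2 → u ∈ H := fun u hu huo => by
      by_cases h : u = z
      · exact hmemH.2 (Or.inl (h ▸ hzR))
      · exact hmemH.2 (Or.inr (hinvol u hu huo h))
    have hvv1 : v * v ≠ 1 := fun h => hvH (by
      rcases eq_or_ne v 1 with h1 | h1
      · rw [h1]; exact one_mem H
      · exact hinvH v hvT (orderOf_eq_two h h1))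
    have hvvR : v * v ∉ R := by
      intro h
      have hh := half (two_dvd_of_ne_one T.2 h.1 hvv1)
      have := huR _ (pow_mem h _) hh
      exact hvH (hmemH.2 (Or.inl (hroot v hvT (this ▸
        pow_mem (mul_mem (Subgroup.mem_zpowers v) (Subgroup.mem_zpowers v)) _))))
    set w := v * v with hw
    have hsw : s * w ∈ R := (hmemH.1 hvv).resolve_left hvvR
    have hww : w * w = 1 := by
      have := hRinv s hg0T hso hg0 _ hsw
      rwa [← mul_assoc s s w, hss, one_mul] at this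
    have hwo : orderOf w = 2 := orderOf_eq_two hww hvv1
    have hwT : w ∈ (T : Subgroup G) := mul_mem hvT hvT
    -- `R` has order two
    have hR2 : ∀ r ∈ R, r = 1 ∨ r = z := by
      obtain ⟨i, hi⟩ := Subgroup.mem_zpowers_iff.1 (hRa ▸ hRn v hvT a haR)
      have h1 : w * a * w⁻¹ = a⁻¹ := by
        have h2 := hRinv w hwT hwo (fun h => hvvR (h ▸ hzR)) a haR
        rw [inv_eq hwo]
        exact eq_inv_of_mul_eq_one_left (by rw [mul_assoc (w * a)]; exact h2)
      have h2 : a ^ (i * i + 1) = 1 := by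
        rw [zpow_add_one, zpow_mul, hi, _root_.conj_zpow, hi]
        calc v * (v * a * v⁻¹) * v⁻¹ * a = w * a * w⁻¹ * a := by rw [hw]; group
          _ = 1 := by rw [h1, inv_mul_cancel]
      have haa : a * a = 1 := by
        by_contra haa
        have h3 : (4 : ℤ) ∣ i * i + 1 :=
          dvd_trans (Int.natCast_dvd_natCast.2 (four_le T.2 haR.1 haa)) (orderOf_dvd_iff_zpow_eq_one.2 h2)
        rcases Int.even_or_odd i with ⟨l, rfl⟩ | ⟨l, rfl⟩
        · have e : (l + l) * (l + l) + 1 = 4 * (l * l) + 1 := by ring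
          omega
        · have e : (2 * l + 1) * (2 * l + 1) + 1 = 4 * (l * l + l) + 2 := by ring
          omega
      intro r hr
      rcases eq_or_ne r 1 with h | h
      · exact Or.inl h
      refine Or.inr (huR r hr (orderOf_eq_two ?_ h))
      obtain ⟨k, hk⟩ := Subgroup.mem_zpowers_iff.1 (hRa ▸ hr)
      rw [← hk, ← (Commute.refl a).mul_zpow, haa, one_zpow]
    have hzz : z * z = 1 := mul_self hz.2.1
    have hcomm : ∀ p ∈ (T : Subgroup G), ∀ q ∈ (T : Subgroup G), p * q * p⁻¹ * q⁻¹ ∈ R := by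
      intro p hp q hq
      refine memR.2 ⟨mul_mem (mul_mem (mul_mem hp hq) (inv_mem hp)) (inv_mem hq), fun x hx ho => ?_⟩
      rcases eq_or_ne x 1 with rfl | hx1
      · simp
      obtain ⟨i, hi⟩ := Subgroup.mem_zpowers_iff.1 (conj_mem_odd hG hz.2.1 ho hx1 (mem_C.1 hx).symm (hTC hp))
      obtain ⟨j, hj⟩ := Subgroup.mem_zpowers_iff.1 (conj_mem_odd hG hz.2.1 ho hx1 (mem_C.1 hx).symm (hTC hq))
      have h2 : p * q * x * (p * q)⁻¹ = q * p * x * (q * p)⁻¹ := by
        calc p * q * x * (p * q)⁻¹ = p * (q * x * q⁻¹) * p⁻¹ := by group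
          _ = (x ^ i) ^ j := by rw [← hj, ← _root_.conj_zpow, hi]
          _ = (x ^ j) ^ i := by rw [← zpow_mul, ← zpow_mul, mul_comm]
          _ = q * (p * x * p⁻¹) * q⁻¹ := by rw [← hi, ← _root_.conj_zpow, hj]
          _ = q * p * x * (q * p)⁻¹ := by group
      calc x * (p * q * p⁻¹ * q⁻¹) = p * q * p⁻¹ * q⁻¹ * (q * p * (p * q)⁻¹ * (x) * (p * q * (q * p)⁻¹)) := by group
        _ = p * q * p⁻¹ * q⁻¹ * x := by
          congr 1
          calc q * p * (p * q)⁻¹ * x * (p * q * (q * p)⁻¹)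
              = q * p * (p * q)⁻¹ * (q * p * ((q * p)⁻¹ * x * (q * p)) * (q * p)⁻¹) * (p * q) * (q * p)⁻¹ := by group
            _ = x := by
              have hy : (q * p)⁻¹ * x * (q * p) ∈ Subgroup.zpowers x := by
                have := conj_mem_odd hG hz.2.1 ho hx1 (mem_C.1 hx).symm (inv_mem (mul_mem (hTC hq) (hTC hp)))
                rwa [inv_inv] at this
              obtain ⟨l, hl⟩ := Subgroup.mem_zpowers_iff.1 hy
              have h3 : q * p * x ^ l * (q * p)⁻¹ = p * q * x ^ l * (p * q)⁻¹ := by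
                rw [← _root_.conj_zpow, ← _root_.conj_zpow, h2]
              rw [← hl, h3]
              calc q * p * (p * q)⁻¹ * (p * q * x ^ l * (p * q)⁻¹) * (p * q) * (q * p)⁻¹
                  = q * p * x ^ l * (q * p)⁻¹ := by group
                _ = x := by rw [hl]; group
    have hwc : ∀ u ∈ (T : Subgroup G), u * w * u⁻¹ = w ∧ u * v * u⁻¹ = v := by
      intro u hu
      set c := u * v * u⁻¹ * v⁻¹ with hc
      have hcR := hR2 c (hcomm u hu v hvT)
      have hcc : c * c = 1 := by rcases hcR with h | h <;> rw [h] <;> simp [hzz]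
      have hcv : c * v = v * c := by
        rcases hcR with h | h <;> rw [h]
        · simp
        · exact (hz.2.2 v hvT).symm
      have hucv : u * v * u⁻¹ = c * v := by rw [hc]; group
      have h1 : u * w * u⁻¹ = w := by
        calc u * w * u⁻¹ = c * v * (c * v) := by rw [← hucv, hw]; group
          _ = c * (v * c) * v := by group
          _ = c * c * w := by rw [← hcv, hw]; group
          _ = w := by rw [hcc, one_mul]
      refine ⟨h1, ?_⟩
      rcases hcR with h | h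
      · rw [hucv, h, one_mul]
      exfalso
      have hwv : w ∈ Subgroup.zpowers v := mul_mem (Subgroup.mem_zpowers v) (Subgroup.mem_zpowers v)
      have h3 : z ∈ Subgroup.zpowers v := by
        rw [← h, hc]
        exact mul_mem (conj_mem_root hG hwo hwv (mem_C_conj.2 h1)) (inv_mem (Subgroup.mem_zpowers v))
      exact hvvR (invol_unique hwv h3 hwo hz.2.1 ▸ hzR)
    have hzT : z ∈ Subgroup.centralizer ((T : Subgroup G) : Set G) :=
      Subgroup.mem_centralizer_iff.2 fun u hu => hz.2.2 u hu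
    have hswv : w = s ∨ w = s * z := by
      rcases hR2 _ hsw with h | h
      · left; rw [eq_inv_of_mul_eq_one_right h, hsi]
      · right; rw [← h, ← mul_assoc, hss, one_mul]
    have hsT : s ∈ Subgroup.centralizer ((T : Subgroup G) : Set G) := by
      refine Subgroup.mem_centralizer_iff.2 fun u hu => ?_
      have h1 : Commute u w := mul_inv_eq_iff_eq_mul.1 (hwc u hu).1
      rcases hswv with h | h
      · rwa [h] at h1
      · have h2 : s = w * z := by rw [h, mul_assoc, hzz, mul_one]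
        rw [h2]; exact (h1.mul_right (hz.2.2 u hu)).eq
    obtain ⟨n, hn, hnz⟩ := CfsgLib.Fusion.Transfer.burnside_central T hzT hsT ⟨g0, hs.symm⟩
    have hsquare : ∀ u ∈ (T : Subgroup G), orderOf (u * u) = 2 → u * u = w := by
      intro u hu huo
      have hnz' : ∀ p ∈ (T : Subgroup G), p * p ≠ z := by
        intro p hp h
        rcases hR2 p (hroot p hp (h ▸ mul_mem (Subgroup.mem_zpowers p) (Subgroup.mem_zpowers p))) with h1 | h1 <;>
          rw [h1] at h
        · exact ne_one hz.2.1 (by simpa using h.symm)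
        · exact ne_one hz.2.1 (hzz ▸ h).symm
      have h1 := hR2 _ (hinvol _ (mul_mem hu hu) huo (hnz' u hu))
      by_contra hne
      have hp : u * u * w = z := by
        have hsz : s * z = z * s := hz.2.2 s hg0T
        have hu' : u * u = s ∨ u * u = s * z := by
          rcases h1 with h1 | h1
          · left; rw [eq_inv_of_mul_eq_one_right h1, hsi]
          · right; rw [← h1, ← mul_assoc, hss, one_mul]
        rcases hu' with h2 | h2 <;> rcases hswv with h3 | h3
        · exact absurd (h2.trans h3.symm) hne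
        · rw [h2, h3, ← mul_assoc, hss, one_mul]
        · rw [h2, h3, hsz, mul_assoc, hss, mul_one]
        · exact absurd (h2.trans h3.symm) hne
      refine hnz' (u * v) (mul_mem hu hvT) ?_
      have huv : Commute u v := mul_inv_eq_iff_eq_mul.1 (hwc u hu).2
      rw [← pow_two, huv.mul_pow, pow_two, pow_two]
      exact hp
    have hnv : n * v * n⁻¹ ∈ (T : Subgroup G) := (Subgroup.mem_normalizer_iff.1 hn v).1 hvT
    have hnw : n * w * n⁻¹ = w := by
      have e : n * w * n⁻¹ = n * v * n⁻¹ * (n * v * n⁻¹) := by rw [hw]; group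
      rw [e]
      exact hsquare _ hnv (by rw [← e, orderOf_conj, hwo])
    have hns' : n * s * n⁻¹ = z := by
      have hsz : s * z = z * s := hz.2.2 s hg0T
      rcases hswv with h | h
      · rw [h] at hnw
        exact absurd (mul_left_cancel (mul_right_cancel (hnw.trans hnz.symm))) hg0
      · rw [h, ← conj_mul, hnz, hsz] at hnw
        exact mul_right_cancel hnw
    set N := Subgroup.normalizer ((T : Subgroup G) : Set G) with hN
    have hoddi : ¬ 2 ∣ ((T : Subgroup G).subgroupOf N).index := fun h2 => T.not_dvd_index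
      (h2.trans (Dvd.intro _ (Subgroup.relIndex_mul_index Subgroup.le_normalizer)))
    have h2 := Subgroup.pow_index_mem ((T : Subgroup G).subgroupOf N) ⟨n, hn⟩
    rw [Subgroup.mem_subgroupOf, SubmonoidClass.coe_pow] at h2
    obtain ⟨l, hl⟩ : Odd ((T : Subgroup G).subgroupOf N).index :=
      Nat.not_even_iff_odd.1 fun h => hoddi (even_iff_two_dvd.1 h)
    rw [hl, pow_succ, pow_mul, pow_two] at h2
    have hnn : Commute (n * n) s := by
      refine mul_inv_eq_iff_eq_mul.1 ?_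
      calc n * n * s * (n * n)⁻¹ = n * (n * s * n⁻¹) * n⁻¹ := by group
        _ = s := by rw [hns', hnz]
    have h3 : (n * n) ^ l * n * z * ((n * n) ^ l * n)⁻¹ = s := by
      calc _ = (n * n) ^ l * (n * z * n⁻¹) * ((n * n) ^ l)⁻¹ := by group
        _ = s := by rw [hnz, (hnn.pow_left l).eq, mul_inv_cancel_right]
    exact hg0 (h3.symm.trans (mem_C_conj.1 (hTC h2)))
  -- `T` is dihedral
  have hindex : (R.subgroupOf (T : Subgroup G)).index = 2 := by
    rw [Subgroup.index_eq_two_iff]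
    refine ⟨⟨s, hg0T⟩, fun b => ?_⟩
    simp only [Subgroup.mem_subgroupOf, Subgroup.coe_mul]
    by_cases hb : (b : G) ∈ R
    · refine Or.inr ⟨hb, fun h => hsR ?_⟩
      have := mul_mem (inv_mem hb) h
      rwa [inv_mul_cancel_left] at this
    · refine Or.inl ⟨?_, hb⟩
      have h2 : s * ((b : G))⁻¹ ∈ R := (hcover _ (inv_mem b.2)).resolve_left fun h => hb (by simpa using inv_mem h)
      have h3 := inv_mem h2
      rwa [mul_inv_rev, inv_inv, hsi] at h3
  have hTcard : Nat.card (T : Subgroup G) = 2 * orderOf a := by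
    rw [← (R.subgroupOf (T : Subgroup G)).card_mul_index, hindex,
      Nat.card_congr (Subgroup.subgroupOfEquivOfLe (inf_le_left : R ≤ (T : Subgroup G))).toEquiv, ← hR, hRa,
      Nat.card_zpowers, mul_comm]
  have hn2 : 2 ≤ orderOf a := by
    have h1 := orderOf_dvd_of_mem_zpowers (hRa ▸ hzR)
    rw [hz.2.1] at h1
    exact Nat.le_of_dvd (orderOf_pos a) h1
  have hdih : Nonempty ((T : Subgroup G) ≃* DihedralGroup (orderOf a)) := by
    refine CfsgLib.TwoGroups.CyclicMax.dihedral_iso (a := ⟨a, haR.1⟩) (b := ⟨s, hg0T⟩)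
      (Subgroup.orderOf_mk a haR.1) hTcard ?_ (Subtype.ext hss) (Subtype.ext (hsinv a haR))
    intro h
    obtain ⟨k, hk⟩ := Subgroup.mem_zpowers_iff.1 h
    apply hsR
    have := congrArg Subtype.val hk
    simp only [SubgroupClass.coe_zpow] at this
    rw [← this]; exact zpow_mem haR k
  have hout : ∀ u ∈ (T : Subgroup G), u ∉ R → ∀ y ∈ O, u * y * u⁻¹ = y⁻¹ := by
    intro u hu huR' y hy
    obtain ⟨hyC, hyo⟩ := hOmem y hy
    have h1 := (memR.1 ((hcover u hu).resolve_left huR')).2 y hyC hyo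
    have e : u = s * (s * u) := by rw [← mul_assoc, hss, one_mul]
    rw [e]
    calc s * (s * u) * y * (s * (s * u))⁻¹ = s * ((s * u) * y * (s * u)⁻¹) * s⁻¹ := by group
      _ = y⁻¹ := by rw [← h1, mul_inv_cancel_right, hinv s hg0T hso hg0 y hyC hyo]
  have hRO : ∀ {u}, u ∈ R → u ∈ Subgroup.centralizer (O : Set G) := fun hu =>
    Subgroup.mem_centralizer_iff.2 fun y hy => (memR.1 hu).2 y (hOmem y hy).1 (hOmem y hy).2
  refine finish ⟨_, hn2, hdih⟩ (fun hO1 => ?_) fun u hu hu' => hout u hu fun h => hu' (hRO h)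
  have heq : (T : Subgroup G) ⊓ Subgroup.centralizer (O : Set G) = R := by
    ext u
    refine ⟨fun h => ?_, fun h => ⟨h.1, hRO h⟩⟩
    by_contra hu
    obtain ⟨y, hy, hy1⟩ : ∃ y ∈ O, y ≠ 1 := by
      by_contra h'
      push Not at h'
      exact hO1 ((Subgroup.eq_bot_iff_forall O).2 h')
    have h1 := hout u h.1 hu y hy
    rw [← Subgroup.mem_centralizer_iff.1 h.2 y hy, mul_inv_cancel_right] at h1
    exact hy1 (odd_self y (hOmem y hy).2 h1.symm)
  rw [heq]
  exact ⟨hRa ▸ inferInstance, hindex⟩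

end

/-- A simple nonsolvable group with the property is `PSL₂`. -/
theorem exists_psl [IsSimpleGroup G] (hG : Ii G) (hns : ¬ Group.IsSolvable G) :
    ∃ (F : Type) (_ : Field F) (_ : Fintype F), 3 < Fintype.card F ∧
      Nonempty (G ≃* Matrix.ProjectiveSpecialLinearGroup (Fin 2) F) := by
  classical
  haveI : Fact (Nat.Prime 2) := ⟨Nat.prime_two⟩
  obtain ⟨T⟩ : Nonempty (Sylow 2 G) := inferInstance
  have heven : 2 ∣ Nat.card G := by
    rw [← even_iff_two_dvd]
    by_contra h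
    exact hns (CfsgLib.OddOrder.Final.oddSolvable G (Nat.not_even_iff_odd.1 h))
  have hex : ∃ z, CentInv (T : Subgroup G) z := by
    haveI : Nontrivial (T : Subgroup G) := (Subgroup.nontrivial_iff_ne_bot _).2 (T.ne_bot_of_dvd_card heven)
    haveI := T.2.center_nontrivial
    obtain ⟨k, hk⟩ := (T.2.to_subgroup (Subgroup.center (T : Subgroup G))).exists_card_eq
    have h1 : 2 ∣ Nat.card (Subgroup.center (T : Subgroup G)) := by
      have := Finite.one_lt_card (α := Subgroup.center (T : Subgroup G))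
      rcases k with _ | k
      · rw [hk] at this; simp at this
      · rw [hk]; exact dvd_pow_self 2 (by omega)
    obtain ⟨⟨⟨c, hcT⟩, hc⟩, hco⟩ := exists_prime_orderOf_dvd_card' 2 h1
    refine ⟨c, hcT, ?_, fun g hg => congrArg Subtype.val (Subgroup.mem_center_iff.1 hc ⟨g, hg⟩)⟩
    rw [← hco, Subgroup.orderOf_mk, Subgroup.orderOf_mk]
  obtain ⟨z, hz, hpref⟩ : ∃ z, CentInv (T : Subgroup G) z ∧ Pref T z := by
    by_cases h : ∃ c, CentInv (T : Subgroup G) c ∧ HasOdd c
    · obtain ⟨c, hc, ho⟩ := h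
      exact ⟨c, hc, fun h' => absurd ho h'⟩
    · obtain ⟨c, hc⟩ := hex
      exact ⟨c, hc, fun _ d hd hdo => h ⟨d, hd, hdo⟩⟩
  by_cases hmulti : ∃ z2, CZ z z2 ∧ z2 ≠ z
  · obtain ⟨z2, hz2, hne⟩ := hmulti
    obtain ⟨F, hF, hFi, ⟨e⟩⟩ := multi_result hG T hz hpref hns hz2 hne
    exact ⟨F, hF, hFi, three_lt_card hns e, ⟨e⟩⟩
  · push Not at hmulti
    obtain ⟨F, hF, hFi, ⟨e⟩⟩ := single_result hG T hz hpref hns hmulti
    exact ⟨F, hF, hFi, three_lt_card hns e, ⟨e⟩⟩

end CfsgLib.Characterizations.IIGroup
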