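import Cfsg.Agent.Lib.Characterizations.IIGroup.Basic
import Cfsg.Agent.Lib.Characterizations.BSWDihedral
import Cfsg.Agent.Lib.TwoGroups.CyclicMax
import Cfsg.Agent.Lib.LocalEvenB.ExtremelyClosedOdd.RankOne

/-!
# Groups in which `N(X) = N(Y)` for `1 ≠ Y ≤ X`, `X` cyclic of even order: the two-subgroups
-/

set_option autoImplicit false
set_option linter.unusedSectionVars false

namespace CfsgLib.Characterizations.IIGroup

open CfsgLib.Involution.Dihedral

universe u

variable {G : Type u} [Group G] [Finite G]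

/-- `x` is an involution of `T` centralised by `T`. -/
def CentInv (T : Subgroup G) (x : G) : Prop := x ∈ T ∧ orderOf x = 2 ∧ ∀ g ∈ T, g * x = x * g

theorem invol_unique {u x y : G} (hx : x ∈ Subgroup.zpowers u) (hy : y ∈ Subgroup.zpowers u)
    (hxo : orderOf x = 2) (hyo : orderOf y = 2) : x = y :=
  CfsgLib.Characterizations.BSW.cyclic_invol_unique inferInstance hx hy hxo hyo

theorem zpowers_comm {u x y : G} (hx : x ∈ Subgroup.zpowers u) (hy : y ∈ Subgroup.zpowers u) : x * y = y * x := by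
  obtain ⟨i, rfl⟩ := Subgroup.mem_zpowers_iff.1 hx
  obtain ⟨j, rfl⟩ := Subgroup.mem_zpowers_iff.1 hy
  exact ((Commute.refl u).zpow_zpow i j).eq

theorem exists_normalizing {U T : Subgroup G} (hT : IsPGroup 2 T) (hlt : U < T) :
    ∃ w ∈ T, w ∉ U ∧ ∀ h, h ∈ U → w * h * w⁻¹ ∈ U := by
  haveI : Fact (Nat.Prime 2) := ⟨Nat.prime_two⟩
  haveI := hT.isNilpotent
  have hne : U.subgroupOf T < ⊤ := lt_top_iff_ne_top.2 fun h => hlt.not_ge (Subgroup.subgroupOf_eq_top.1 h)
  obtain ⟨w, hw, hwn⟩ := SetLike.exists_of_lt (Group.normalizerCondition_of_isNilpotent (U.subgroupOf T) hne)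
  exact ⟨w, w.2, hwn, fun h hh => (Subgroup.mem_normalizer_iff.1 hw ⟨h, hlt.le hh⟩).1 hh⟩

/-- A normalising element with square inside. -/
theorem exists_step {U T : Subgroup G} (hT : IsPGroup 2 T) (hlt : U < T) :
    ∃ v ∈ T, v ∉ U ∧ v * v ∈ U ∧ ∀ h, h ∈ U → v * h * v⁻¹ ∈ U := by
  obtain ⟨w, hwT, hwU, hwn⟩ := exists_normalizing hT hlt
  obtain ⟨k, hk⟩ := hT ⟨w, hwT⟩
  have hk' : w ^ 2 ^ k = 1 := by simpa using congrArg (Subtype.val) hk
  have hall : ∀ n : ℕ, ∀ h, h ∈ U → w ^ n * h * (w ^ n)⁻¹ ∈ U := by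
    intro n
    induction n with
    | zero => intro h hh; simpa using hh
    | succ n ih =>
      intro h hh
      have e : w ^ (n + 1) * h * (w ^ (n + 1))⁻¹ = w * (w ^ n * h * (w ^ n)⁻¹) * w⁻¹ := by
        rw [pow_succ']; group
      rw [e]; exact hwn _ (ih h hh)
  classical
  have hex : ∃ j, w ^ 2 ^ j ∈ U := ⟨k, by rw [hk']; exact one_mem _⟩
  have hspec := Nat.find_spec hex
  rcases h0 : Nat.find hex with _ | j
  · rw [h0] at hspec; simp at hspec; exact absurd hspec hwU
  rw [h0] at hspec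
  refine ⟨w ^ 2 ^ j, pow_mem hwT _, Nat.find_min hex (by omega), ?_, hall _⟩
  rwa [← pow_add, ← two_mul, ← pow_succ']

theorem four_le {T : Subgroup G} (hT : IsPGroup 2 T) {u : G} (hu : u ∈ T) (h : u * u ≠ 1) :
    4 ∣ orderOf u := by
  obtain ⟨k, hk⟩ := hT ⟨u, hu⟩
  have hk' : u ^ 2 ^ k = 1 := by simpa using congrArg (Subtype.val) hk
  obtain ⟨i, -, hi⟩ := (Nat.dvd_prime_pow Nat.prime_two).1 (orderOf_dvd_of_pow_eq_one hk')
  rcases i with _ | _ | i
  · rw [pow_zero, orderOf_eq_one_iff] at hi; simp [hi] at h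
  · rw [zero_add, pow_one] at hi; exact absurd (mul_self hi) h
  · rw [hi, pow_add]; exact ⟨2 ^ i, by ring⟩

theorem two_dvd_of_ne_one {T : Subgroup G} (hT : IsPGroup 2 T) {u : G} (hu : u ∈ T) (h : u ≠ 1) :
    2 ∣ orderOf u := by
  obtain ⟨k, hk⟩ := hT ⟨u, hu⟩
  have hk' : u ^ 2 ^ k = 1 := by simpa using congrArg (Subtype.val) hk
  obtain ⟨i, -, hi⟩ := (Nat.dvd_prime_pow Nat.prime_two).1 (orderOf_dvd_of_pow_eq_one hk')
  rcases i with _ | i
  · rw [pow_zero, orderOf_eq_one_iff] at hi; exact absurd hi h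
  · rw [hi]; exact dvd_pow_self 2 (by omega)

theorem half {u : G} (h : 2 ∣ orderOf u) : orderOf (u ^ (orderOf u / 2)) = 2 := by
  have hp := orderOf_pos u
  rw [orderOf_pow_of_dvd (by omega) (Nat.div_dvd_of_dvd h), Nat.div_div_self h (by omega)]

/-- Two-elements in two cyclic groups with different involutions. -/
theorem meet_eq_one {T : Subgroup G} (hT : IsPGroup 2 T) {u u' t t' c : G} (ht : orderOf t = 2)
    (ht' : orderOf t' = 2) (htu : t ∈ Subgroup.zpowers u) (htu' : t' ∈ Subgroup.zpowers u') (hne : t ≠ t')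
    (hcT : c ∈ T) (hc : c ∈ Subgroup.zpowers u) (hc' : c ∈ Subgroup.zpowers u') : c = 1 := by
  by_contra h
  have h2 := half (two_dvd_of_ne_one hT hcT h)
  exact hne ((invol_unique htu (pow_mem hc _) ht h2).trans (invol_unique (pow_mem hc' _) htu' h2 ht'))

variable (hG : Ii G)
include hG

/-- An involution of a two-subgroup `T` that is a proper power is centralised by `T`. -/
theorem root_central {T : Subgroup G} (hT : IsPGroup 2 T) {u t : G} (hu : u ∈ T) (hu4 : u * u ≠ 1)
    (ht : orderOf t = 2) (htu : t ∈ Subgroup.zpowers u) : ∀ g ∈ T, g * t = t * g := by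
  by_contra hbad
  push Not at hbad
  obtain ⟨g, hgT, hg⟩ := hbad
  set P := T ⊓ Subgroup.centralizer ({t} : Set G) with hP
  have hlt : P < T := lt_of_le_of_ne inf_le_left fun h => hg (mem_C.1 (show g ∈ Subgroup.centralizer ({t} : Set G) from (inf_eq_left.1 h) hgT))
  obtain ⟨v, hvT, hvP, hvv, hvn⟩ := exists_step hT hlt
  obtain ⟨i, hi⟩ := four_le hT hu hu4
  have htpow : t = u ^ (2 * i) := by
    have h2 := half (u := u) ⟨2 * i, by omega⟩
    rw [show orderOf u / 2 = 2 * i by omega] at h2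
    exact invol_unique htu (Subgroup.npow_mem_zpowers u _) ht h2
  have huP : u ∈ P := ⟨hu, mem_C.2 (zpowers_comm (Subgroup.mem_zpowers u) htu)⟩
  set t' := v * t * v⁻¹ with ht'
  set u' := v * u * v⁻¹ with hu'
  have ht'o : orderOf t' = 2 := by rw [ht', orderOf_conj, ht]
  have htne : t ≠ t' := fun h => hvP ⟨hvT, mem_C_conj.2 h.symm⟩
  have ht'pow : t' = u' ^ (2 * i) := by rw [ht', htpow, hu', _root_.conj_pow]
  have ht'u' : t' ∈ Subgroup.zpowers u' := ht'pow ▸ Subgroup.npow_mem_zpowers u' _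
  have hu'P : u' ∈ P := hvn _ huP
  have hn1 : u' * u * u'⁻¹ ∈ Subgroup.zpowers u := conj_mem_root hG ht htu hu'P.2
  have huC' : u ∈ Subgroup.centralizer ({t'} : Set G) := by
    rw [ht', centralizer_conj]
    have h3 := hvn _ (hvn _ huP)
    have e : v⁻¹ * u * v = (v * v)⁻¹ * (v * u * v⁻¹) * (v * v) := by group
    rw [e]
    exact mem_C.2 (mem_C.1 (mul_mem (mul_mem (inv_mem hvv) hu'P) hvv).2)
  have hn2 : u * u' * u⁻¹ ∈ Subgroup.zpowers u' := conj_mem_root hG ht'o ht'u' huC'
  have hc1 : u * u' * u⁻¹ * u'⁻¹ = 1 := by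
    refine meet_eq_one hT ht ht'o htu ht'u' htne
      (mul_mem (mul_mem (mul_mem hu hu'P.1) (inv_mem hu)) (inv_mem hu'P.1)) ?_
      (mul_mem hn2 (inv_mem (Subgroup.mem_zpowers u')))
    have e : u * u' * u⁻¹ * u'⁻¹ = u * (u' * u * u'⁻¹)⁻¹ := by group
    rw [e]; exact mul_mem (Subgroup.mem_zpowers u) (inv_mem hn1)
  have hcm : Commute u u' := mul_inv_eq_one.1 hc1 |> fun h => mul_inv_eq_iff_eq_mul.1 h
  -- `v` centralises `t * t'`
  have hvt' : v * t' * v⁻¹ = t := by
    have h3 := mem_C.1 hvv.2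
    calc v * t' * v⁻¹ = (v * v * t) * v⁻¹ * v⁻¹ := by rw [ht']; group
      _ = t := by rw [h3]; group
  have hct : Commute t t' := by rw [htpow, ht'pow]; exact hcm.pow_pow _ _
  have htto : orderOf (t * t') = 2 := by
    refine orderOf_eq_two ?_ fun h => htne ?_
    · rw [← pow_two, hct.mul_pow, pow_two, pow_two, mul_self ht, mul_self ht'o, one_mul]
    · rw [mul_eq_one_iff_eq_inv.1 h, inv_eq ht'o]
  have hvtt : v ∈ Subgroup.centralizer ({t * t'} : Set G) := by
    rw [mem_C_conj, ← conj_mul, hvt', ← ht', hct.eq]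
  have httmem : t * t' ∈ Subgroup.zpowers (u * u') := by
    rw [htpow, ht'pow, ← hcm.mul_pow]; exact Subgroup.npow_mem_zpowers _ _
  obtain ⟨j, hj⟩ := Subgroup.mem_zpowers_iff.1 (conj_mem_root hG htto httmem hvtt)
  obtain ⟨a, ha⟩ := Subgroup.mem_zpowers_iff.1 (conj_mem_root hG ht htu hvv.2)
  have hkey : u' * u ^ a = u ^ j * u' ^ j := by
    rw [← hcm.mul_zpow, hj, ha, hu']; group
  have hsplit : u ^ (a - j) = u' ^ (j - 1) := by
    have h' : u ^ a * u' = u ^ j * u' ^ j := by
      rw [(hcm.zpow_left a).eq, hkey]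
    have h'' : u ^ a = u ^ j * (u' ^ j * u'⁻¹) := by rw [← mul_assoc, ← h', mul_inv_cancel_right]
    rw [zpow_sub_one, sub_eq_add_neg, add_comm, zpow_add, h'', zpow_neg, inv_mul_cancel_left]
  have h1 : u' ^ (j - 1) = 1 :=
    meet_eq_one hT ht ht'o htu ht'u' htne (Subgroup.zpow_mem _ hu'P.1 _) (hsplit ▸ Subgroup.zpow_mem_zpowers u _)
      (Subgroup.zpow_mem_zpowers u' _)
  have h2 : u ^ (j - 1) = 1 := by rwa [hu', _root_.conj_zpow, conj_eq_one_iff] at h1
  have h3 : u ^ a = u := by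
    rw [show a = (a - j) + (j - 1) + 1 by ring, zpow_add_one, zpow_add, hsplit, h1, h2, one_mul, one_mul]
  have hvvu : Commute (v * v) u := mul_inv_eq_iff_eq_mul.1 (ha.symm.trans h3)
  have hvu' : v * u' * v⁻¹ = u := by
    calc v * u' * v⁻¹ = (v * v * u) * v⁻¹ * v⁻¹ := by rw [hu']; group
      _ = u := by rw [hvvu.eq]; group
  -- the key element commutes with `v`
  have hd : Commute v (u * u'⁻¹) := by
    rcases eq_or_ne (v * v) 1 with hv1 | hv1
    · have hvi : v⁻¹ = v := inv_eq_of_mul_eq_one_right hv1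
      have hw2 : v * u * (v * u) = u' * u := by
        rw [hu', hvi, ← mul_assoc]
      have hmem : t * t' ∈ Subgroup.zpowers (v * u) := by
        rw [htpow, ht'pow, ← hcm.mul_pow, hcm.eq, ← hw2]
        exact pow_mem (mul_mem (Subgroup.mem_zpowers _) (Subgroup.mem_zpowers _)) _
      have huc : u ∈ Subgroup.centralizer ({t * t'} : Set G) := by
        refine mem_C.2 (Commute.mul_right ?_ ?_)
        · rw [htpow]; exact (Commute.refl u).pow_right _
        · rw [ht'pow]; exact hcm.pow_right _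
      have h4 := conj_mem_root hG htto hmem huc
      have e : u * (v * u) * u⁻¹ * (v * u)⁻¹ = u * u'⁻¹ := by rw [hu']; group
      have h5 : Commute (v * u) (u * u'⁻¹) :=
        zpowers_comm (Subgroup.mem_zpowers _) (e ▸ mul_mem h4 (inv_mem (Subgroup.mem_zpowers _)))
      have h6 : Commute u (u * u'⁻¹) := (Commute.refl u).mul_right hcm.inv_right
      simpa using h5.mul_left h6.inv_left
    · set w := (v * v) ^ (orderOf (v * v) / 2) with hw
      have hwo : orderOf w = 2 := half (two_dvd_of_ne_one hT hvv.1 hv1)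
      have hwv : w ∈ Subgroup.zpowers v :=
        pow_mem (mul_mem (Subgroup.mem_zpowers v) (Subgroup.mem_zpowers v)) _
      have h4 := conj_mem_root hG hwo hwv (mem_C.2 (hvvu.pow_left _).symm.eq : u ∈ _)
      have e : u * v * u⁻¹ * v⁻¹ = u * u'⁻¹ := by rw [hu']; group
      exact zpowers_comm (Subgroup.mem_zpowers _) (e ▸ mul_mem h4 (inv_mem (Subgroup.mem_zpowers _)))
  have h7 : u' * u⁻¹ = u * u'⁻¹ := by
    have := mul_inv_eq_iff_eq_mul.2 hd.eq
    rwa [← conj_mul, ← conj_inv, ← hu', hvu'] at this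
  have h8 : u' * u' = u * u := by
    have h9 : u' = u * u'⁻¹ * u := mul_inv_eq_iff_eq_mul.1 h7
    calc u' * u' = u * u'⁻¹ * u * u' := by rw [← h9]
      _ = u * u'⁻¹ * (u' * u) := by rw [mul_assoc _ u u', hcm.eq]
      _ = u * u := by group
  apply htne
  rw [htpow, ht'pow, pow_mul, pow_mul, pow_two, pow_two, h8]

theorem conj_mem_root' {T : Subgroup G} (hT : IsPGroup 2 T) {u g : G} (hu : u ∈ T) (hu4 : u * u ≠ 1)
    (hg : g ∈ T) : g * u * g⁻¹ ∈ Subgroup.zpowers u := by
  have hne : u ≠ 1 := fun h => hu4 (by simp [h])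
  have ht := half (two_dvd_of_ne_one hT hu hne)
  exact conj_mem_root hG ht (Subgroup.npow_mem_zpowers u _)
    (mem_C.2 (root_central hG hT hu hu4 ht (Subgroup.npow_mem_zpowers u _) g hg))

/-- The two-group when a noncentral involution is conjugate to a central one. -/
theorem dihedral_of_fused (T : Sylow 2 G)
    (hC : ∀ c, CentInv (T : Subgroup G) c → Subgroup.centralizer ({c} : Set G) = T)
    {z s g0 : G} (hz : CentInv (T : Subgroup G) z) (hsT : s ∈ (T : Subgroup G)) (hs : s = g0 * z * g0⁻¹)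
    (hsc : ¬ ∀ g ∈ (T : Subgroup G), g * s = s * g) :
    (∀ c d, CentInv (T : Subgroup G) c → CentInv (T : Subgroup G) d → c = d) ∧
      ∃ n, 2 ≤ n ∧ Nonempty ((T : Subgroup G) ≃* DihedralGroup n) := by
  obtain ⟨S, hSdef⟩ : ∃ S : Subgroup G, S = (T : Subgroup G) := ⟨_, rfl⟩
  rw [← hSdef] at hC hz hsT hsc ⊢
  have hT : IsPGroup 2 S := hSdef ▸ T.2
  clear hSdef
  have hso : orderOf s = 2 := by rw [hs, orderOf_conj, hz.2.1]
  have hCs : ∀ x, s * x = x * s → g0⁻¹ * x * g0 ∈ S := fun x hx => by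
    rw [← hC z hz, ← centralizer_conj, ← hs, mem_C, hx]
  -- no element is central in both
  have hboth : ∀ c, CentInv S c → CentInv S (g0⁻¹ * c * g0) → False := by
    intro c hc hc'
    have hmap : ∀ x ∈ S, g0 * x * g0⁻¹ ∈ S := by
      intro x hx
      rw [← hC c hc, mem_C]
      calc g0 * x * g0⁻¹ * c = g0 * (x * (g0⁻¹ * c * g0)) * g0⁻¹ := by group
        _ = c * (g0 * x * g0⁻¹) := by rw [hc'.2.2 x hx]; group
    have hle : S.map (MulAut.conj g0).toMonoidHom ≤ S := by
      rintro _ ⟨x, hx, rfl⟩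
      simpa using hmap x hx
    have heq := Subgroup.eq_of_le_of_card_ge hle
      (le_of_eq (Nat.card_congr (S.equivMapOfInjective _ (MulAut.conj g0).injective).toEquiv))
    apply hsc
    intro g hg
    rw [← heq] at hg
    obtain ⟨x, hx, rfl⟩ := hg
    simp only [MulEquiv.coe_toMonoidHom, MulAut.conj_apply]
    rw [hs, conj_mul, conj_mul, hz.2.2 x hx]
  -- the centralizer of `s` in `T` has exponent two
  have hexp : ∀ y ∈ S, s * y = y * s → y * y = 1 := by
    intro y hy hsy
    by_contra h4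
    have hne : y ≠ 1 := fun h => h4 (by simp [h])
    set w := y ^ (orderOf y / 2) with hw
    have hwo : orderOf w = 2 := half (two_dvd_of_ne_one hT hy hne)
    have hwy : w ∈ Subgroup.zpowers y := Subgroup.npow_mem_zpowers y _
    refine hboth w ⟨pow_mem hy _, hwo, root_central hG hT hy h4 hwo hwy⟩ ?_
    have hy' := hCs y hsy
    have hw' : g0⁻¹ * w * g0 = (g0⁻¹ * y * g0) ^ (orderOf y / 2) := by
      have := _root_.conj_pow (a := g0⁻¹) (b := y) (i := orderOf y / 2)
      rw [inv_inv] at this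
      exact this.symm
    have hwo' : orderOf (g0⁻¹ * w * g0) = 2 := by
      have := orderOf_conj g0⁻¹ w
      rwa [inv_inv, hwo] at this
    refine ⟨hw' ▸ pow_mem hy' _, hwo', root_central hG hT hy' (fun h => h4 ?_) hwo' (hw' ▸ Subgroup.npow_mem_zpowers _ _)⟩
    have e : g0⁻¹ * y * g0 * (g0⁻¹ * y * g0) = g0⁻¹ * (y * y) * g0 := by group
    rw [e] at h
    calc y * y = g0 * (g0⁻¹ * (y * y) * g0) * g0⁻¹ := by group
      _ = 1 := by rw [h]; group
  have hss : s * s = 1 := mul_self hso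
  have hsi : s⁻¹ = s := inv_eq hso
  -- `s` inverts all elements of order at least four
  have hinv : ∀ u ∈ S, u * u ≠ 1 → s * u * s⁻¹ = u⁻¹ := by
    intro u hu hu4
    have hsu := conj_mem_root' hG hT hu hu4 hsT
    have hnc : s * u ≠ u * s := fun h => hu4 (hexp u hu h)
    set c := s * u * s⁻¹ * u with hc
    have hcu : c ∈ Subgroup.zpowers u := mul_mem hsu (Subgroup.mem_zpowers u)
    have hcs : s * c = c * s := by
      have h1 := zpowers_comm hsu (Subgroup.mem_zpowers u)
      rw [hc]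
      conv_rhs => rw [h1]
      rw [hsi]
      calc s * (s * u * s * u) = (s * s) * u * s * u := by group
        _ = u * s * u := by rw [hss, one_mul]
        _ = u * s * u * (s * s) := by rw [hss, mul_one]
        _ = u * (s * u * s) * s := by group
    have hcc : c * c = 1 := hexp c (mul_mem (mul_mem (mul_mem hsT hu) (inv_mem hsT)) hu) hcs
    rcases eq_or_ne c 1 with h1 | h1
    · exact mul_eq_one_iff_eq_inv.1 h1
    exfalso
    have hco : orderOf c = 2 := orderOf_eq_two hcc h1
    have hsq : s * u * (s * u) = c := by rw [hc, hsi, mul_assoc (s * u) s u]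
    have hcmem : c ∈ Subgroup.zpowers (s * u) :=
      hsq ▸ mul_mem (Subgroup.mem_zpowers _) (Subgroup.mem_zpowers _)
    have h2 := conj_mem_root hG hco hcmem (mem_C.2 (zpowers_comm (Subgroup.mem_zpowers u) hcu))
    obtain ⟨j, hj⟩ := Subgroup.mem_zpowers_iff.1 h2
    rw [← mul_assoc, mul_inv_cancel_right] at hj
    rcases Int.even_or_odd j with ⟨l, rfl⟩ | ⟨l, rfl⟩
    · rw [zpow_add, ← (Commute.refl (s * u)).mul_zpow, hsq] at hj
      have h3 : s ∈ Subgroup.zpowers u := by
        have := mul_mem (inv_mem (Subgroup.mem_zpowers u)) (hj ▸ zpow_mem hcu l : u * s ∈ Subgroup.zpowers u)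
        rwa [inv_mul_cancel_left] at this
      exact hnc (zpowers_comm h3 (Subgroup.mem_zpowers u))
    · rw [zpow_add_one, zpow_mul, zpow_two, hsq] at hj
      rcases Int.even_or_odd l with ⟨l', rfl⟩ | ⟨l', rfl⟩
      · rw [zpow_add, ← (Commute.refl c).mul_zpow, hcc, one_zpow, one_mul] at hj
        exact hnc hj
      · rw [zpow_add_one, zpow_mul, zpow_two, hcc, one_zpow, one_mul, ← mul_assoc, ← hcs] at hj
        apply hu4
        have h4 : s * c * u = u * s := hj
        rw [hc, hsi] at h4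
        have h5 : s * (s * u * s * u) * u = u * s * (u * u) := by
          calc s * (s * u * s * u) * u = (s * s) * u * s * (u * u) := by group
            _ = u * s * (u * u) := by rw [hss, one_mul]
        rw [h5] at h4
        exact mul_eq_left.1 h4
  -- there is an element of order at least four
  obtain ⟨u, huS, hu4⟩ : ∃ u ∈ S, u * u ≠ 1 := by
    by_contra h
    push Not at h
    exact hsc fun g hg => by
      have h1 := h (g * s) (mul_mem hg hsT)
      calc g * s = g * s * (g * s * (g * s))⁻¹ := by rw [h1]; group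
        _ = s⁻¹ * g⁻¹ := by group
        _ = s * g := by rw [hsi, inv_eq_of_mul_eq_one_right (h g hg)]
  have hune : u ≠ 1 := fun h => hu4 (by simp [h])
  set t := u ^ (orderOf u / 2) with ht
  have hto : orderOf t = 2 := half (two_dvd_of_ne_one hT huS hune)
  have htu : t ∈ Subgroup.zpowers u := Subgroup.npow_mem_zpowers u _
  have htc : CentInv S t := ⟨pow_mem huS _, hto, root_central hG hT huS hu4 hto htu⟩
  have hsu := hinv u huS hu4
  set A := S ⊓ Subgroup.centralizer ({u} : Set G) with hA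
  have huA : u ∈ A := ⟨huS, mem_C.2 rfl⟩
  have hAinv : ∀ a ∈ A, s * a * s⁻¹ = a⁻¹ := by
    rintro a ⟨ha, hau⟩
    have hau : Commute a u := mem_C.1 hau
    by_cases haa : a * a = 1
    · have h1 : a * u * (a * u) ≠ 1 := by
        rw [← pow_two, hau.mul_pow, pow_two, pow_two, haa, one_mul]; exact hu4
      have h2 := hinv _ (mul_mem ha huS) h1
      rw [← conj_mul, hsu, mul_inv_rev, hau.inv_inv.symm.eq] at h2
      exact mul_right_cancel h2
    · exact hinv a ha haa
  have hAcomm : ∀ a ∈ A, ∀ b ∈ A, a * b = b * a := by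
    intro a ha b hb
    have h1 := hAinv _ (mul_mem ha hb)
    rw [← conj_mul, hAinv a ha, hAinv b hb] at h1
    simpa using congrArg (·⁻¹) h1.symm
  -- outside `A`
  have hK : ∀ x ∈ S, ∀ y ∈ S, x * x ≠ 1 → y * y ≠ 1 → x * y ≠ y * x → x * y * (x * y) = 1 := by
    intro x hx y hy hx4 hy4 hne
    by_contra h4
    have h1 := hinv _ (mul_mem hx hy) h4
    rw [← conj_mul, hinv x hx hx4, hinv y hy hy4] at h1
    exact hne (by simpa using congrArg (·⁻¹) h1.symm)
  have hout : ∀ g ∈ S, g * u ≠ u * g → g * g = 1 := by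
    intro g hg hgu
    by_contra hgg
    have h1 := hK g hg u huS hgg hu4 hgu
    have h2 : g * u⁻¹ * (g * u⁻¹) = 1 := by
      refine hK g hg u⁻¹ (inv_mem huS) hgg (fun h => hu4 ?_) fun h => hgu ?_
      · simpa using congrArg (·⁻¹) h
      · exact (Commute.inv_right_iff.1 h).eq
    -- `g * g ∈ <u>`
    have hgg' : g * g ∈ Subgroup.zpowers u := by
      have e : g * g = (g * u * g⁻¹)⁻¹ * u⁻¹ := by
        calc g * g = (g * u * g⁻¹)⁻¹ * (g * u * (g * u)) * u⁻¹ := by group
          _ = _ := by rw [h1, mul_one]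
      rw [e]
      exact mul_mem (inv_mem (conj_mem_root' hG hT huS hu4 hg)) (inv_mem (Subgroup.mem_zpowers u))
    have hcgu : Commute u (g * g) := zpowers_comm (Subgroup.mem_zpowers u) hgg'
    have e1 : g * u * g⁻¹ = u⁻¹ * (g * g)⁻¹ := by
      calc g * u * g⁻¹ = (g * u * (g * u)) * u⁻¹ * (g * g)⁻¹ := by group
        _ = _ := by rw [h1, one_mul]
    have e2 : g * u * g⁻¹ = g * g * u⁻¹ := by
      calc g * u * g⁻¹ = g * (g * u⁻¹ * (g * u⁻¹)) * u * g⁻¹ := by rw [h2, mul_one]
        _ = g * g * u⁻¹ := by group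
    have hg4 : g * g * (g * g) = 1 := by
      have h3 : u⁻¹ * (g * g)⁻¹ = u⁻¹ * (g * g) := by rw [← e1, e2, hcgu.inv_left.eq]
      exact mul_eq_one_iff_eq_inv.2 (mul_left_cancel h3).symm
    have hggo : orderOf (g * g) = 2 := orderOf_eq_two hg4 hgg
    obtain ⟨j, hj⟩ := Subgroup.mem_zpowers_iff.1 (conj_mem_root hG hggo
      (mul_mem (Subgroup.mem_zpowers g) (Subgroup.mem_zpowers g)) (mem_C.2 hcgu.eq))
    rcases Int.even_or_odd j with ⟨l, rfl⟩ | ⟨l, rfl⟩
    · rw [zpow_add, ← (Commute.refl g).mul_zpow] at hj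
      have h3 : g ∈ Subgroup.zpowers u := by
        have := mul_mem (mul_mem (inv_mem (Subgroup.mem_zpowers u)) (hj ▸ zpow_mem hgg' l : u * g * u⁻¹ ∈ Subgroup.zpowers u)) (Subgroup.mem_zpowers u)
        rwa [show u⁻¹ * (u * g * u⁻¹) * u = g by group] at this
      exact hgu (zpowers_comm h3 (Subgroup.mem_zpowers u))
    · rw [zpow_add_one, zpow_mul, zpow_two] at hj
      rcases Int.even_or_odd l with ⟨l', rfl⟩ | ⟨l', rfl⟩
      · rw [zpow_add, ← (Commute.refl (g * g)).mul_zpow, hg4, one_zpow, one_mul] at hj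
        exact hgu (mul_inv_eq_iff_eq_mul.1 hj.symm).symm
      · rw [zpow_add_one, zpow_mul, zpow_two, hg4, one_zpow, one_mul] at hj
        apply hu4
        calc u * u = g * (g * g * g) * (u * u) := by
              rw [show g * (g * g * g) = g * g * (g * g) by group, hg4, one_mul]
          _ = g * u * (g * u) := by rw [hj]; group
          _ = 1 := h1
  have hflip : ∀ g ∈ S, g * u ≠ u * g → g * g = 1 ∧ g * u * g⁻¹ = u⁻¹ := by
    intro g hg hgu
    have hgg := hout g hg hgu
    refine ⟨hgg, ?_⟩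
    have hgu2 : g * u * (g * u) = 1 := hout _ (mul_mem hg huS) fun h => hgu (by
      have h' : g * u * u = u * g * u := by rw [h]; group
      exact mul_right_cancel h')
    rw [inv_eq_of_mul_eq_one_right hgg]
    calc g * u * g = (g * u * (g * u)) * u⁻¹ := by group
      _ = u⁻¹ := by rw [hgu2, one_mul]
  have hsA : s ∉ A := fun h => hu4 (hexp u huS (mem_C.1 h.2))
  have hcoset : ∀ g ∈ S, g ∉ A → s * g ∈ A := by
    intro g hg hgA
    have h1 := (hflip g hg fun h => hgA ⟨hg, mem_C.2 h⟩).2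
    refine ⟨mul_mem hsT hg, mem_C_conj.2 ?_⟩
    calc s * g * u * (s * g)⁻¹ = s * (g * u * g⁻¹) * s⁻¹ := by group
      _ = (s * u * s⁻¹)⁻¹ := by rw [h1, conj_inv]
      _ = u := by rw [hsu, inv_inv]
  -- involutions of `A` are central
  have hAcent : ∀ a ∈ A, orderOf a = 2 → CentInv S a := by
    intro a ha hao
    refine ⟨ha.1, hao, fun g hg => ?_⟩
    by_cases hgA : g ∈ A
    · exact hAcomm g hgA a ha
    have hsa : Commute s a := by
      have := hAinv a ha
      rw [inv_eq hao] at this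
      exact mul_inv_eq_iff_eq_mul.1 this
    have h2 : Commute (s * g) a := hAcomm _ (hcoset g hg hgA) a ha
    have e : g = s⁻¹ * (s * g) := by group
    rw [e]
    exact hsa.inv_left.mul_left h2
  have huniq : ∀ a ∈ A, orderOf a = 2 → a = t := by
    intro a ha hao
    by_contra hat
    have hac := hAcent a ha hao
    have hsa : s * a = a * s := hac.2.2 s hsT
    have hst : s * t = t * s := htc.2.2 s hsT
    have hatc : Commute a t := htc.2.2 a ha.1
    have hato : orderOf (a * t) = 2 := by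
      refine orderOf_eq_two ?_ fun h => hat ?_
      · rw [← pow_two, hatc.mul_pow, pow_two, pow_two, mul_self hao, mul_self hto, one_mul]
      · rw [mul_eq_one_iff_eq_inv.1 h, inv_eq hto]
    have hatcent : CentInv S (a * t) := ⟨mul_mem ha.1 (pow_mem huS _), hato, fun g hg =>
      (Commute.mul_right (show Commute g a from hac.2.2 g hg) (htc.2.2 g hg)).eq⟩
    have hord : ∀ x : G, orderOf x = 2 → orderOf (g0⁻¹ * x * g0) = 2 := fun x hx => by
      have := orderOf_conj g0⁻¹ x
      rwa [inv_inv, hx] at this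
    have hsat : s * (a * t) = a * t * s := hatcent.2.2 s hsT
    have key : ∀ x, CentInv S x → s * x = x * s → g0⁻¹ * x * g0 ∉ A := fun x hx hsx hxA =>
      hboth x hx (hAcent _ hxA (hord x hx.2.1))
    have h1 := (hflip _ (hCs a hsa) fun h => key a hac hsa ⟨hCs a hsa, mem_C.2 h⟩).2
    have h2 := (hflip _ (hCs t hst) fun h => key t htc hst ⟨hCs t hst, mem_C.2 h⟩).2
    refine key _ hatcent hsat ⟨hCs _ hsat, mem_C_conj.2 ?_⟩
    have e : g0⁻¹ * (a * t) * g0 = (g0⁻¹ * a * g0) * (g0⁻¹ * t * g0) := by group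
    rw [e]
    calc _ = (g0⁻¹ * a * g0) * ((g0⁻¹ * t * g0) * u * (g0⁻¹ * t * g0)⁻¹) * (g0⁻¹ * a * g0)⁻¹ := by group
      _ = ((g0⁻¹ * a * g0) * u * (g0⁻¹ * a * g0)⁻¹)⁻¹ := by rw [h2, conj_inv]
      _ = u := by rw [h1, inv_inv]
  -- `A` is cyclic
  haveI : Fact (Nat.Prime 2) := ⟨Nat.prime_two⟩
  letI : CommGroup A := { (inferInstance : Group A) with mul_comm := fun a b => Subtype.ext (hAcomm _ a.2 _ b.2) }
  have hAp : IsPGroup 2 A := hT.to_le inf_le_left
  have hcard : Nat.card {x : A // x ^ 2 = 1} ≤ 2 := by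
    have hsub : ∀ x : {x : A // x ^ 2 = 1}, ((x.1 : A) : G) = 1 ∨ ((x.1 : A) : G) = t := by
      rintro ⟨⟨x, hx⟩, h2⟩
      rcases eq_or_ne x 1 with h | h
      · exact Or.inl h
      refine Or.inr (huniq x hx (orderOf_eq_two ?_ h))
      have := congrArg Subtype.val h2
      simpa [pow_two] using this
    classical
    calc Nat.card {x : A // x ^ 2 = 1} ≤ Nat.card Bool :=
          Nat.card_le_card_of_injective (fun x => decide (((x.1 : A) : G) = t)) (by
            intro x y h
            apply Subtype.ext; apply Subtype.ext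
            have htne := ne_one hto
            simp only [decide_eq_decide] at h
            rcases hsub x with hx | hx <;> rcases hsub y with hy | hy
            · exact hx.trans hy.symm
            · rw [hx, hy] at h; exact absurd (h.2 rfl).symm htne
            · rw [hx, hy] at h; exact absurd (h.1 rfl).symm htne
            · exact hx.trans hy.symm)
      _ = 2 := by simp
  obtain ⟨⟨a, haA⟩, hgen⟩ :=
    (CfsgLib.LocalEvenB.ExtremelyClosedOdd.isCyclic_of_card_roots hAp hcard).exists_generator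
  have hAa : A = Subgroup.zpowers a := by
    refine le_antisymm (fun x hx => ?_) (Subgroup.zpowers_le.2 haA)
    obtain ⟨k, hk⟩ := Subgroup.mem_zpowers_iff.1 (hgen ⟨x, hx⟩)
    exact Subgroup.mem_zpowers_iff.2 ⟨k, by simpa using congrArg Subtype.val hk⟩
  have ha4 : 4 ≤ orderOf a := by
    have h1 : orderOf u ∣ orderOf a := orderOf_dvd_of_mem_zpowers (hAa ▸ huA)
    have h2 := Nat.le_of_dvd (orderOf_pos u) (four_le hT huS hu4)
    exact h2.trans (Nat.le_of_dvd (orderOf_pos a) h1)
  have hindex : (A.subgroupOf S).index = 2 := by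
    rw [Subgroup.index_eq_two_iff]
    refine ⟨⟨s, hsT⟩, fun b => ?_⟩
    simp only [Subgroup.mem_subgroupOf, Subgroup.coe_mul]
    by_cases hb : (b : G) ∈ A
    · refine Or.inr ⟨hb, fun h => hsA ?_⟩
      have := mul_mem (inv_mem hb) h
      rwa [inv_mul_cancel_left] at this
    · refine Or.inl ⟨?_, hb⟩
      have h1 : (b : G)⁻¹ ∉ A := fun h => hb (by simpa using inv_mem h)
      have h2 := inv_mem (hcoset _ (inv_mem b.2) h1)
      simpa [hsi] using h2
  have hScard : Nat.card S = 2 * orderOf a := by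
    rw [← (A.subgroupOf S).card_mul_index, hindex,
      Nat.card_congr (Subgroup.subgroupOfEquivOfLe (inf_le_left : A ≤ S)).toEquiv, ← hA, hAa, Nat.card_zpowers, mul_comm]
  refine ⟨fun c d hc hd => ?_, orderOf a, by omega, ?_⟩
  · have key : ∀ c, CentInv S c → c = t := fun c hc =>
      huniq c ⟨hc.1, mem_C.2 (hc.2.2 u huS).symm⟩ hc.2.1
    rw [key c hc, key d hd]
  · refine CfsgLib.TwoGroups.CyclicMax.dihedral_iso (a := ⟨a, haA.1⟩) (b := ⟨s, hsT⟩)
      (Subgroup.orderOf_mk a haA.1) hScard ?_ (Subtype.ext hss) (Subtype.ext (hAinv a haA))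
    intro h
    obtain ⟨k, hk⟩ := Subgroup.mem_zpowers_iff.1 h
    apply hsA
    have := congrArg Subtype.val hk
    simp only [SubgroupClass.coe_zpow] at this
    rw [← this]; exact zpow_mem haA k

end CfsgLib.Characterizations.IIGroup
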